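import Mathlib
import Cfsg.Agent.H657.Factors

/-!
# Fixed vectors and extensions by `p`-groups

* `exists_fixed_of_irr`: if `t` has nonzero fixed vectors in all irreducible representations over an extension
  field `k` then it has nonzero fixed vectors in all nonzero representations;
* `exists_comm_of_irr`: `N ≠ 1` a normal `p`-subgroup of `G`, `f : G →* R` onto with kernel `N`, `f g = t` as before:
  some element of order `p` of `N` commutes with `g`;
* `adj_of_irr`: then `G` has an element of order `p * r` if `t` has the prime order `r ≠ p`.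
-/

set_option autoImplicit false

namespace Cfsg.Agent.H811.FixExt

open Module TensorProduct

theorem asAlgebraHom_sub_one {R k W : Type*} [Group R] [Field k] [AddCommGroup W] [Module k W]
    (ρ : Representation k R W) (t : R) : ρ.asAlgebraHom (MonoidAlgebra.of k R t - 1) = ρ t - 1 := by
  rw [map_sub, map_one, Representation.asAlgebraHom_of]

/-- Fixed vectors over a subfield. -/
theorem exists_fixed_of_irr {R : Type*} [Group R] {F k : Type*} [Field F] [Field k] [Algebra F k] {t : R}
    (h : ∀ (n : ℕ) (σ : Representation k R (Fin n → k)), σ.IsIrreducible → ∃ w, w ≠ 0 ∧ σ t w = w)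
    {W : Type*} [AddCommGroup W] [Module F W] [FiniteDimensional F W] [Nontrivial W]
    (ρ : Representation F R W) : ∃ w, w ≠ 0 ∧ ρ t w = w := by
  classical
  let ρk : Representation k R (k ⊗[F] W) :=
    { toFun := fun g => (ρ g).baseChange k
      map_one' := by
        rw [map_one]
        exact LinearMap.baseChange_id
      map_mul' := fun g g' => by
        rw [map_mul]
        exact LinearMap.baseChange_comp _ _ }
  obtain ⟨m, n, σ, hirr, hdet⟩ := H657.Factors.exists_factors ρk
  have hm : m ≠ 0 := by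
    rintro rfl
    have h1 := hdet 0
    rw [map_zero, Fin.prod_univ_zero] at h1
    have h2 : LinearMap.det (0 : k ⊗[F] W →ₗ[k] k ⊗[F] W) = 0 := by
      rw [LinearMap.det_zero, finrank_baseChange]
      exact zero_pow finrank_pos.ne'
    rw [h2] at h1
    exact zero_ne_one h1
  let a : MonoidAlgebra k R := MonoidAlgebra.of k R t - 1
  have h1 := hdet a
  have h2 : LinearMap.det ((σ ⟨0, Nat.pos_of_ne_zero hm⟩).asAlgebraHom a) = 0 := by
    obtain ⟨w, hw, hw'⟩ := h _ (σ ⟨0, Nat.pos_of_ne_zero hm⟩) (hirr _)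
    rw [asAlgebraHom_sub_one]
    by_contra hne
    have h3 := LinearMap.ker_eq_bot.1 ((LinearMap.isUnit_iff_ker_eq_bot _).1
      ((LinearMap.isUnit_iff_isUnit_det _).2 (isUnit_iff_ne_zero.2 hne)))
    apply hw
    apply h3
    rw [map_zero, LinearMap.sub_apply, hw', Module.End.one_apply, sub_self]
  rw [Finset.prod_eq_zero (f := fun i => LinearMap.det ((σ i).asAlgebraHom a)) (Finset.mem_univ _) h2,
    asAlgebraHom_sub_one] at h1
  have h3 : ρk t - 1 = (ρ t - 1).baseChange k := by
    rw [LinearMap.baseChange_sub]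
    congr 1
    exact LinearMap.baseChange_id.symm
  rw [h3, LinearMap.det_baseChange, map_eq_zero] at h1
  by_contra hcon
  push Not at hcon
  have h4 : LinearMap.ker (ρ t - 1) = ⊥ := by
    rw [LinearMap.ker_eq_bot']
    intro w hw
    by_contra hw0
    apply hcon w hw0
    rw [LinearMap.sub_apply, Module.End.one_apply, sub_eq_zero] at hw
    exact hw
  have h5 := (LinearMap.isUnit_iff_isUnit_det _).1 ((LinearMap.isUnit_iff_ker_eq_bot _).2 h4)
  rw [h1] at h5
  exact not_isUnit_zero h5

section ext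

variable {p : ℕ} [hp : Fact p.Prime] {G R : Type*} [Group G] [Finite G] [Group R] (f : G →* R)
  (hf : Function.Surjective f)

/-- `Ω₁(Z(N))`. -/
def om (p : ℕ) (N : Subgroup G) : Subgroup G where
  carrier := {z | z ∈ N ∧ (∀ n ∈ N, z * n = n * z) ∧ z ^ p = 1}
  one_mem' := ⟨N.one_mem, fun n _ => by rw [one_mul, mul_one], one_pow _⟩
  mul_mem' := by
    rintro x y ⟨hx, hx', hx1⟩ ⟨hy, hy', hy1⟩
    refine ⟨N.mul_mem hx hy, fun n hn => by rw [mul_assoc, hy' n hn, ← mul_assoc, hx' n hn, mul_assoc], ?_⟩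
    have hc : Commute x y := hx' y hy
    rw [hc.mul_pow, hx1, hy1, one_mul]
  inv_mem' := by
    rintro x ⟨hx, hx', hx1⟩
    refine ⟨N.inv_mem hx, fun n hn => ?_, by rw [inv_pow, hx1, inv_one]⟩
    have hc : Commute x n := hx' n hn
    exact hc.inv_left

omit [Finite G] hp in
theorem mem_om {N : Subgroup G} {z : G} : z ∈ om p N ↔ z ∈ N ∧ (∀ n ∈ N, z * n = n * z) ∧ z ^ p = 1 := Iff.rfl

omit [Finite G] hp in
theorem om_conj {N : Subgroup G} (hN : N.Normal) (g : G) {z : G} (hz : z ∈ om p N) : g * z * g⁻¹ ∈ om p N := by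
  obtain ⟨h1, h2, h3⟩ := hz
  refine ⟨hN.conj_mem z h1 g, fun n hn => ?_, by rw [conj_pow, h3, mul_one, mul_inv_cancel]⟩
  have h4 := h2 _ (hN.conj_mem n hn g⁻¹)
  rw [inv_inv] at h4
  calc g * z * g⁻¹ * n = g * (z * (g⁻¹ * n * g)) * g⁻¹ := by group
    _ = g * ((g⁻¹ * n * g) * z) * g⁻¹ := by rw [h4]
    _ = _ := by group

instance omComm (p : ℕ) (N : Subgroup G) : CommGroup (om p N) :=
  { Subgroup.toGroup (om p N) with
    mul_comm := fun x y => Subtype.ext (x.2.2.1 y.1 y.2.1) }

/-- The conjugation action on `Ω₁(Z(N))`. -/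
def conjHom {N : Subgroup G} (hN : N.Normal) (g : G) : Additive (om p N) →+ Additive (om p N) where
  toFun z := Additive.ofMul ⟨g * (z.toMul : G) * g⁻¹, om_conj hN g z.toMul.2⟩
  map_zero' := by
    apply Additive.toMul.injective
    apply Subtype.ext
    show g * ((1 : om p N) : G) * g⁻¹ = ((1 : om p N) : G)
    simp
  map_add' z z' := by
    apply Additive.toMul.injective
    apply Subtype.ext
    show g * ((z.toMul * z'.toMul : om p N) : G) * g⁻¹ = g * (z.toMul : G) * g⁻¹ * (g * (z'.toMul : G) * g⁻¹)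
    rw [Subgroup.coe_mul]
    group


omit [Finite G] hp in
theorem smul_om (N : Subgroup G) (z : Additive (om p N)) : p • z = 0 := by
  apply Additive.toMul.injective
  apply Subtype.ext
  exact z.toMul.2.2.2

/-- The module structure. -/
instance omModule (N : Subgroup G) : Module (ZMod p) (Additive (om p N)) :=
  AddCommGroup.zmodModule (smul_om N)

/-- The representation of `G`. -/
noncomputable def repG {N : Subgroup G} (hN : N.Normal) : Representation (ZMod p) G (Additive (om p N)) where
  toFun g := AddMonoidHom.toZModLinearMap p (conjHom (p := p) hN g)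
  map_one' := by
    refine LinearMap.ext fun z => ?_
    apply Additive.toMul.injective
    apply Subtype.ext
    show (1 : G) * (z.toMul : G) * 1⁻¹ = (z.toMul : G)
    simp
  map_mul' g g' := by
    refine LinearMap.ext fun z => ?_
    apply Additive.toMul.injective
    apply Subtype.ext
    show (g * g') * (z.toMul : G) * (g * g')⁻¹ = g * (g' * (z.toMul : G) * g'⁻¹) * g⁻¹
    group

theorem nontrivial_om {N : Subgroup G} (hN : IsPGroup p N) (hN1 : N ≠ ⊥) : Nontrivial (Additive (om p N)) := by
  have h1 : Nontrivial N := (Subgroup.nontrivial_iff_ne_bot _).2 hN1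
  have h2 := hN.center_nontrivial
  have h3 : IsPGroup p (Subgroup.center N) := hN.to_subgroup _
  obtain ⟨n, hn⟩ := IsPGroup.iff_card.1 h3
  have h4 : p ∣ Nat.card (Subgroup.center N) := by
    rw [hn]
    apply dvd_pow_self
    rintro rfl
    rw [pow_zero] at hn
    have := Finite.one_lt_card_iff_nontrivial.2 h2
    omega
  obtain ⟨x, hx⟩ := exists_prime_orderOf_dvd_card' p h4
  have hx1 : ((x : N) : G) ∈ om p N := by
    refine ⟨(x : N).2, fun n hn => ?_, ?_⟩
    · have := Subgroup.mem_center_iff.1 x.2 ⟨n, hn⟩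
      exact (congrArg Subtype.val this).symm
    · have := pow_orderOf_eq_one x
      rw [hx] at this
      have h5 := congrArg (fun y : Subgroup.center N => ((y : N) : G)) this
      simpa using h5
  refine ⟨Additive.ofMul ⟨_, hx1⟩, Additive.ofMul 1, fun h5 => ?_⟩
  have h6 : (⟨_, hx1⟩ : om p N) = 1 := Additive.ofMul.injective h5
  have h7 : ((x : N) : G) = 1 := congrArg Subtype.val h6
  have h8 : x = 1 := Subtype.ext (Subtype.ext h7)
  rw [h8, orderOf_one] at hx
  exact hp.out.one_lt.ne hx

omit [Finite G] in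
theorem le_ker_repG {N : Subgroup G} (hN : N.Normal) : N ≤ (repG (p := p) hN).ker := by
  intro n hn
  rw [MonoidHom.mem_ker]
  refine LinearMap.ext fun z => ?_
  apply Additive.toMul.injective
  apply Subtype.ext
  show n * (z.toMul : G) * n⁻¹ = (z.toMul : G)
  rw [← z.toMul.2.2.1 n hn, mul_inv_cancel_right]

omit [Finite G] in
theorem comm_of_repG {N : Subgroup G} (hN : N.Normal) {g : G} {w : Additive (om p N)} (hw : w ≠ 0)
    (h : repG hN g w = w) : ∃ a ∈ N, orderOf a = p ∧ Commute a g := by
  have hw1 : g * (w.toMul : G) * g⁻¹ = (w.toMul : G) :=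
    congrArg (fun z : Additive (om p N) => ((z.toMul : om p N) : G)) h
  refine ⟨w.toMul, w.toMul.2.1, ?_, ?_⟩
  · apply orderOf_eq_prime w.toMul.2.2.2
    intro h1
    apply hw
    apply Additive.toMul.injective
    exact Subtype.ext h1
  · have : Commute g (w.toMul : G) := by
      show g * (w.toMul : G) = (w.toMul : G) * g
      calc g * (w.toMul : G) = g * (w.toMul : G) * g⁻¹ * g := by group
        _ = _ := by rw [hw1]
    exact this.symm

include hf in
omit [Finite G] in
/-- Descent of a representation. -/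
theorem exists_desc {M : Type*} [Monoid M] (φ : G →* M) (h : f.ker ≤ φ.ker) : ∃ ψ : R →* M, ∀ g, ψ (f g) = φ g :=
  ⟨MonoidHom.comp (QuotientGroup.lift f.ker φ h)
    (QuotientGroup.quotientKerEquivOfSurjective f hf).symm.toMonoidHom, fun g => by
      have h1 : (QuotientGroup.quotientKerEquivOfSurjective f hf).symm (f g) = (g : G ⧸ f.ker) := by
        rw [MulEquiv.symm_apply_eq]
        rfl
      show QuotientGroup.lift f.ker φ h ((QuotientGroup.quotientKerEquivOfSurjective f hf).symm (f g)) = φ g
      rw [h1]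
      rfl⟩

include hf in
/-- **Fixed points in extensions.** -/
theorem exists_comm_of_irr (hN : IsPGroup p f.ker) (hN1 : f.ker ≠ ⊥) {k : Type*} [Field k]
    [Algebra (ZMod p) k] {t : R}
    (h : ∀ (n : ℕ) (σ : Representation k R (Fin n → k)), σ.IsIrreducible → ∃ w, w ≠ 0 ∧ σ t w = w)
    {g : G} (hg : f g = t) : ∃ a ∈ f.ker, orderOf a = p ∧ Commute a g := by
  have hnorm : f.ker.Normal := inferInstance
  have hfin : Finite (Additive (om p f.ker)) := inferInstanceAs (Finite (om p f.ker))
  have hfd : FiniteDimensional (ZMod p) (Additive (om p f.ker)) := Module.Finite.of_finite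
  have hnt := nontrivial_om hN hN1
  obtain ⟨ρ, hρ⟩ := exists_desc f hf (repG (p := p) hnorm) (le_ker_repG hnorm)
  obtain ⟨w, hw, hw'⟩ := exists_fixed_of_irr h ρ
  rw [← hg, hρ] at hw'
  exact comm_of_repG hnorm hw hw'

include hf in
/-- **Elements of order `p * r` in extensions.** -/
theorem adj_of_irr (hN : IsPGroup p f.ker) (hN1 : f.ker ≠ ⊥) {k : Type*} [Field k]
    [Algebra (ZMod p) k] {t : R} {r : ℕ} (hr : r.Prime) (hrp : p ≠ r) (ht : orderOf t = r)
    (h : ∀ (n : ℕ) (σ : Representation k R (Fin n → k)), σ.IsIrreducible → ∃ w, w ≠ 0 ∧ σ t w = w) :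
    ∃ g : G, orderOf g = p * r := by
  obtain ⟨g, hg⟩ := hf t
  obtain ⟨a, -, ha, hc⟩ := exists_comm_of_irr f hf hN hN1 h hg
  have h1 : r ∣ orderOf g := by
    rw [← ht, ← hg]
    exact orderOf_map_dvd f g
  obtain ⟨k, hk⟩ := h1
  have hg0 := orderOf_pos g
  have hk0 : k ≠ 0 := by
    rintro rfl
    omega
  have h2 : orderOf (g ^ k) = r := by
    rw [orderOf_pow_of_dvd hk0 (by rw [hk]; exact Dvd.intro_left _ rfl), hk,
      Nat.mul_div_cancel _ (Nat.pos_of_ne_zero hk0)]
  have h3 : Commute a (g ^ k) := hc.pow_right k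
  refine ⟨a * g ^ k, ?_⟩
  rw [h3.orderOf_mul_eq_mul_orderOf_of_coprime, ha, h2]
  rw [ha, h2]
  exact (Nat.coprime_primes hp.out hr).2 hrp

end ext

end Cfsg.Agent.H811.FixExt
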