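import Cfsg.Agent.H974.ExcComb
import Cfsg.Agent.H974.LThree
import Cfsg.Agent.S0016
import Cfsg.Agent.GH.Cov.SylowThree
import Cfsg.Prelude.Def_EvenType

/-!
# Three commuting subgroups of even order in the centralizer of an involutory automorphism (helper811; S3140)

* `Gen p M` : `M` is generated by its `p`-elements;
* `no_compl`, `four_dvd` : no normal 2-complement, no Sylow subgroup of order 2;
* `not_two` : two commuting subgroups of even order generated by 3-elements in a group with non-abelian Sylow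
  2-subgroups of order at most 16;
* `quat` : the same when commuting involutions are equal;
* `no_com3` : the task.
-/

set_option autoImplicit false

namespace Cfsg.Agent.H811.QuatCom

open Cfsg Subgroup
open scoped commutatorElement

universe u v

/-! ### Products of commuting subgroups -/

theorem card_sup_mul_inf {G : Type*} [Group G] [Finite G] {K H : Subgroup G}
    (h : H ≤ Subgroup.normalizer (K : Set G)) :
    Nat.card (H ⊔ K : Subgroup G) * Nat.card (H ⊓ K : Subgroup G) = Nat.card H * Nat.card K := by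
  have hKn : (K.subgroupOf (K ⊔ H)).Normal :=
    Subgroup.normal_subgroupOf_of_le_normalizer (sup_le Subgroup.le_normalizer h)
  have h1 := Subgroup.relIndex_sup_left (H.subgroupOf (K ⊔ H)) (K.subgroupOf (K ⊔ H))
  rw [← Subgroup.subgroupOf_sup le_sup_left le_sup_right, Subgroup.subgroupOf_self,
    Subgroup.relIndex_subgroupOf le_sup_right, Subgroup.relIndex_top_right] at h1
  have h2 : Nat.card K * K.relIndex H = Nat.card (K ⊔ H : Subgroup G) := by
    rw [← h1, Subgroup.index_eq_card, ← Subgroup.card_mul_index (K.subgroupOf (K ⊔ H)), Subgroup.index_eq_card,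
      Nat.card_congr (Subgroup.subgroupOfEquivOfLe (le_sup_left : K ≤ K ⊔ H)).toEquiv]
  have h3 : Nat.card (H ⊓ K : Subgroup G) * K.relIndex H = Nat.card H := by
    have h4 := Subgroup.card_mul_index (K.subgroupOf H)
    have h5 : Nat.card (K.subgroupOf H) = Nat.card (H ⊓ K : Subgroup G) := by
      rw [← Subgroup.inf_subgroupOf_left]
      exact Nat.card_congr (Subgroup.subgroupOfEquivOfLe inf_le_left).toEquiv
    rw [h5] at h4
    exact h4
  rw [sup_comm, ← h2, ← h3]
  ring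

theorem le_norm_of_comm {G : Type*} [Group G] {A B : Subgroup G} (hc : ∀ a ∈ A, ∀ b ∈ B, a * b = b * a) :
    A ≤ normalizer (B : Set G) := by
  intro a ha
  rw [mem_normalizer_iff]
  intro b
  constructor
  · intro hb
    rw [hc a ha b hb, mul_inv_cancel_right]
    exact hb
  · intro hb
    have h1 := hc a ha _ hb
    have h2 : a * b * a⁻¹ = b := by
      have h3 : a * (a * b * a⁻¹) = a * b := by rw [h1]; group
      exact mul_left_cancel h3
    rwa [h2] at hb

theorem card_sup_comm {G : Type*} [Group G] [Finite G] {A B : Subgroup G} (hc : ∀ a ∈ A, ∀ b ∈ B, a * b = b * a) :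
    Nat.card (A ⊔ B : Subgroup G) * Nat.card (A ⊓ B : Subgroup G) = Nat.card A * Nat.card B :=
  card_sup_mul_inf (le_norm_of_comm hc)

/-! ### Subgroups generated by `p`-elements -/

/-- `M` is generated by its `p`-elements. -/
def Gen {G : Type*} [Group G] (p : ℕ) (M : Subgroup G) : Prop :=
  M ≤ closure {g | g ∈ M ∧ ∃ k : ℕ, g ^ p ^ k = 1}

section gen

variable {G : Type*} [Group G] {p : ℕ} {M : Subgroup G}

theorem Gen.map {G' : Type*} [Group G'] (f : G →* G') (h : Gen p M) : Gen p (M.map f) := by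
  unfold Gen
  refine (Subgroup.map_mono (f := f) h).trans ?_
  rw [MonoidHom.map_closure]
  refine closure_mono ?_
  rintro _ ⟨g, ⟨hg, k, hk⟩, rfl⟩
  exact ⟨mem_map_of_mem _ hg, k, by rw [← map_pow, hk, map_one]⟩

theorem Gen.of_inj {G' : Type*} [Group G'] (f : G →* G') (hf : Function.Injective f) (h : Gen p (M.map f)) :
    Gen p M := by
  intro x hx
  have h1 : f x ∈ (closure {g | g ∈ M ∧ ∃ k : ℕ, g ^ p ^ k = 1}).map f := by
    rw [MonoidHom.map_closure]
    refine closure_mono ?_ (h (mem_map_of_mem _ hx))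
    rintro _ ⟨⟨y, hy, rfl⟩, k, hk⟩
    refine ⟨y, ⟨hy, k, hf ?_⟩, rfl⟩
    rw [map_pow, hk, map_one]
  obtain ⟨y, hy, hxy⟩ := h1
  rwa [← hf hxy]

theorem Gen.subgroupOf {H : Subgroup G} (hMH : M ≤ H) (h : Gen p M) : Gen p (M.subgroupOf H) := by
  refine Gen.of_inj H.subtype H.subtype_injective ?_
  rw [Subgroup.map_subgroupOf_eq_of_le hMH]
  exact h

theorem Gen.top (h : Gen p M) : Gen p (⊤ : Subgroup M) := by
  refine Gen.of_inj M.subtype M.subtype_injective ?_
  rw [← MonoidHom.range_eq_map, range_subtype]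
  exact h

/-- a homomorphism to a group without `p`-elements is trivial -/
theorem Gen.hom_trivial {B : Type*} [Group B] (hB : ∀ b : B, ∀ k : ℕ, b ^ p ^ k = 1 → b = 1) (h : Gen p M)
    (f : G →* B) : M ≤ f.ker := by
  refine h.trans ((closure_le _).2 ?_)
  rintro g ⟨-, k, hk⟩
  exact hB _ k (by rw [← map_pow, hk, map_one])

end gen

/-- a 2-group has no nontrivial 3-elements -/
theorem two_three {B : Type*} [Group B] (hB : IsPGroup 2 B) (b : B) (k : ℕ) (hb : b ^ 3 ^ k = 1) : b = 1 := by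
  obtain ⟨j, hj⟩ := hB b
  have h1 : orderOf b ∣ 2 ^ j := orderOf_dvd_of_pow_eq_one hj
  have h2 : orderOf b ∣ 3 ^ k := orderOf_dvd_of_pow_eq_one hb
  have h3 : Nat.Coprime (2 ^ j) (3 ^ k) := Nat.Coprime.pow _ _ (by norm_num)
  have h4 := Nat.dvd_gcd h1 h2
  rw [h3] at h4
  rwa [Nat.dvd_one, orderOf_eq_one_iff] at h4

/-- Burnside's transfer theorem -/
theorem no_compl {G : Type*} [Group G] [Finite G] (h : Gen 3 (⊤ : Subgroup G)) (he : 2 ∣ Nat.card G) (P : Sylow 2 G)
    (hP : normalizer (P : Set G) ≤ centralizer (P : Set G)) : False := by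
  have : Fact (Nat.Prime 2) := ⟨Nat.prime_two⟩
  have h1 := Gen.hom_trivial (B := (P : Subgroup G)) (two_three P.2) h (MonoidHom.transferSylow P hP)
  have h2 := MonoidHom.not_dvd_card_ker_transferSylow P hP
  rw [top_le_iff.1 h1, card_top] at h2
  exact h2 he

/-- no central Sylow 2-subgroup -/
theorem no_central {G : Type*} [Group G] [Finite G] (h : Gen 3 (⊤ : Subgroup G)) (he : 2 ∣ Nat.card G)
    (P : Sylow 2 G) (hP : (P : Subgroup G) ≤ center G) : False := by
  refine no_compl h he P ?_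
  intro g _
  rw [mem_centralizer_iff]
  intro x hx
  exact (mem_center_iff.1 (hP hx) g).symm

/-- no Sylow subgroup of order 2 -/
theorem four_dvd {G : Type*} [Group G] [Finite G] (h : Gen 3 (⊤ : Subgroup G)) (he : 2 ∣ Nat.card G) :
    4 ∣ Nat.card G := by
  have : Fact (Nat.Prime 2) := ⟨Nat.prime_two⟩
  by_contra h4
  obtain ⟨P⟩ : Nonempty (Sylow 2 G) := inferInstance
  have hc : Nat.card P = 2 := by
    have h1 := P.card_eq_multiplicity
    have h2 : (Nat.card G).factorization 2 = 1 := by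
      have hne : Nat.card G ≠ 0 := Nat.card_pos.ne'
      have h3 : 1 ≤ (Nat.card G).factorization 2 :=
        (Nat.prime_two.dvd_iff_one_le_factorization hne).1 he
      have h5 : ¬ 2 ≤ (Nat.card G).factorization 2 := by
        intro h6
        apply h4
        exact (Nat.prime_two.pow_dvd_iff_le_factorization hne).2 h6
      omega
    rw [h1, h2, pow_one]
  refine no_compl h he P ?_
  intro g hg
  rw [mem_centralizer_iff]
  intro x hx
  by_cases hx1 : x = 1
  · rw [hx1, mul_one, one_mul]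
  have hgx : g * x * g⁻¹ ∈ (P : Subgroup G) := (mem_normalizer_iff.1 hg x).1 hx
  have hgx1 : g * x * g⁻¹ ≠ 1 := by
    intro h1
    apply hx1
    rwa [conj_eq_one_iff] at h1
  have h2 : (⟨g * x * g⁻¹, hgx⟩ : (P : Subgroup G)) = ⟨x, hx⟩ := by
    by_contra h5
    have h7 : ({1, ⟨g * x * g⁻¹, hgx⟩, ⟨x, hx⟩} : Set (P : Subgroup G)).ncard = 3 := by
      rw [Set.ncard_eq_three]
      exact ⟨_, _, _, fun h => hgx1 (congrArg Subtype.val h).symm, fun h => hx1 (congrArg Subtype.val h).symm, h5, rfl⟩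
    have h8 := Set.ncard_le_ncard (Set.subset_univ ({1, ⟨g * x * g⁻¹, hgx⟩, ⟨x, hx⟩} : Set (P : Subgroup G)))
    rw [Set.ncard_univ, h7] at h8
    have h9 : Nat.card (P : Subgroup G) = 2 := hc
    omega
  have h3 : g * x * g⁻¹ = x := congrArg Subtype.val h2
  rw [mul_inv_eq_iff_eq_mul] at h3
  exact h3.symm

/-! ### The quotient by a central subgroup -/

theorem four_relIndex {G : Type*} [Group G] [Finite G] {M₁ M₂ : Subgroup G} (h : Gen 3 M₁) (he : 2 ∣ Nat.card M₁)
    (hc : ∀ a ∈ M₁, ∀ b ∈ M₂, a * b = b * a) : 4 ∣ M₂.relIndex M₁ := by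
  have : Fact (Nat.Prime 2) := ⟨Nat.prime_two⟩
  have hZc : M₂.subgroupOf M₁ ≤ center M₁ := by
    intro z hz
    rw [mem_center_iff]
    intro g
    exact Subtype.ext (hc g g.2 z hz)
  have hn : (M₂.subgroupOf M₁).Normal := by
    constructor
    intro z hz g
    rw [mem_center_iff.1 (hZc hz) g, mul_inv_cancel_right]
    exact hz
  have hg := h.top
  have hq : Gen 3 (⊤ : Subgroup (M₁ ⧸ M₂.subgroupOf M₁)) := by
    have h1 := hg.map (QuotientGroup.mk' (M₂.subgroupOf M₁))
    rwa [← MonoidHom.range_eq_map, QuotientGroup.range_mk'] at h1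
  have hcard : Nat.card (M₁ ⧸ M₂.subgroupOf M₁) = M₂.relIndex M₁ := rfl
  rw [← hcard]
  refine four_dvd hq ?_
  by_contra h2
  obtain ⟨P⟩ : Nonempty (Sylow 2 M₁) := inferInstance
  refine no_central hg he P ?_
  refine le_trans ?_ hZc
  intro x hx
  have h3 : QuotientGroup.mk' (M₂.subgroupOf M₁) x = 1 := by
    obtain ⟨k, hk⟩ := P.2 ⟨x, hx⟩
    have h4 : x ^ 2 ^ k = 1 := congrArg Subtype.val hk
    have h5 : orderOf (QuotientGroup.mk' (M₂.subgroupOf M₁) x) ∣ 2 ^ k :=
      orderOf_dvd_of_pow_eq_one (by rw [← map_pow, h4, map_one])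
    have h6 : orderOf (QuotientGroup.mk' (M₂.subgroupOf M₁) x) ∣ Nat.card (M₁ ⧸ M₂.subgroupOf M₁) := orderOf_dvd_natCard _
    have h7 : Nat.Coprime (2 ^ k) (Nat.card (M₁ ⧸ M₂.subgroupOf M₁)) :=
      Nat.Coprime.pow_left _ ((Nat.Prime.coprime_iff_not_dvd Nat.prime_two).2 h2)
    have h8 := Nat.dvd_gcd h5 h6
    rw [h7] at h8
    rwa [Nat.dvd_one, orderOf_eq_one_iff] at h8
  exact (QuotientGroup.eq_one_iff x).1 h3

/-- **Two commuting subgroups of even order.** -/
theorem not_two {G : Type*} [Group G] [Finite G] (h32 : ¬ 32 ∣ Nat.card G)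
    (hS : ∀ S : Sylow 2 G, ¬ IsMulCommutative (S : Subgroup G)) {M₁ M₂ : Subgroup G} (g1 : Gen 3 M₁) (g2 : Gen 3 M₂)
    (e1 : 2 ∣ Nat.card M₁) (e2 : 2 ∣ Nat.card M₂) (hc : ∀ a ∈ M₁, ∀ b ∈ M₂, a * b = b * a) : False := by
  have : Fact (Nat.Prime 2) := ⟨Nat.prime_two⟩
  obtain ⟨a, ha⟩ := four_relIndex g1 e1 hc
  obtain ⟨b, hb⟩ := four_relIndex g2 e2 (fun x hx y hy => (hc y hy x hx).symm)
  have c1 : Nat.card (M₁ ⊓ M₂ : Subgroup G) * M₂.relIndex M₁ = Nat.card M₁ := by
    rw [← relIndex_bot_left, ← relIndex_bot_left, ← inf_relIndex_left M₁ M₂]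
    exact relIndex_mul_relIndex _ _ _ bot_le inf_le_left
  have c2 : Nat.card (M₁ ⊓ M₂ : Subgroup G) * M₁.relIndex M₂ = Nat.card M₂ := by
    rw [← relIndex_bot_left, ← relIndex_bot_left, ← inf_relIndex_right M₁ M₂]
    exact relIndex_mul_relIndex _ _ _ bot_le inf_le_right
  have c3 := card_sup_comm hc
  set z := Nat.card (M₁ ⊓ M₂ : Subgroup G) with hz
  have hz0 : 0 < z := Nat.card_pos
  have c4 : Nat.card (M₁ ⊔ M₂ : Subgroup G) = 16 * (a * b * z) := by
    rw [← c1, ← c2, ha, hb] at c3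
    have h1 : Nat.card (M₁ ⊔ M₂ : Subgroup G) * z = 16 * (a * b * z) * z := by rw [c3]; ring
    exact Nat.eq_of_mul_eq_mul_right hz0 h1
  have hodd : ¬ 2 ∣ a * b * z := by
    rintro ⟨d, hd⟩
    apply h32
    refine (Dvd.intro d ?_).trans (card_subgroup_dvd_card (M₁ ⊔ M₂))
    rw [c4, hd]
    ring
  have ho : ¬ 2 ∣ a ∧ ¬ 2 ∣ b ∧ ¬ 2 ∣ z := by
    refine ⟨fun h => hodd ?_, fun h => hodd ?_, fun h => hodd ?_⟩
    · exact (h.mul_right b).mul_right z
    · exact (h.mul_left a).mul_right z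
    · exact h.mul_left _
  have hfour : ∀ {M : Subgroup G} {m : ℕ} (_ : ¬ 2 ∣ m) (_ : Nat.card M = 4 * m) (P : Sylow 2 M),
      Nat.card ((P : Subgroup M).map M.subtype) = 4 := by
    intro M m hm hM P
    rw [card_map_of_injective M.subtype_injective]
    have h1 := P.card_eq_multiplicity
    have h2 : (Nat.card M).factorization 2 = 2 := by
      have hne : Nat.card M ≠ 0 := Nat.card_pos.ne'
      have h3 : 2 ≤ (Nat.card M).factorization 2 :=
        (Nat.prime_two.pow_dvd_iff_le_factorization hne).1 (by rw [hM]; exact Dvd.intro m (by norm_num))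
      have h5 : ¬ 3 ≤ (Nat.card M).factorization 2 := by
        intro h6
        have h7 := (Nat.prime_two.pow_dvd_iff_le_factorization hne).2 h6
        rw [hM] at h7
        apply hm
        omega
      omega
    rw [h2] at h1
    exact h1
  obtain ⟨P₁⟩ : Nonempty (Sylow 2 M₁) := inferInstance
  obtain ⟨P₂⟩ : Nonempty (Sylow 2 M₂) := inferInstance
  have k1 := hfour (m := a * z) (fun h => (Nat.prime_two.dvd_mul.1 h).elim ho.1 ho.2.2)
    (by rw [← c1, ha]; ring) P₁
  have k2 := hfour (m := b * z) (fun h => (Nat.prime_two.dvd_mul.1 h).elim ho.2.1 ho.2.2)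
    (by rw [← c2, hb]; ring) P₂
  set Q₁ : Subgroup G := (P₁ : Subgroup M₁).map M₁.subtype with hQ₁
  set Q₂ : Subgroup G := (P₂ : Subgroup M₂).map M₂.subtype with hQ₂
  have l1 : Q₁ ≤ M₁ := map_subtype_le _
  have l2 : Q₂ ≤ M₂ := map_subtype_le _
  have hcQ : ∀ a ∈ Q₁, ∀ b ∈ Q₂, a * b = b * a := fun a ha b hb => hc a (l1 ha) b (l2 hb)
  have k3 := card_sup_comm hcQ
  have k4 : Nat.card (Q₁ ⊓ Q₂ : Subgroup G) = 1 := by
    have h1 : Nat.card (Q₁ ⊓ Q₂ : Subgroup G) ∣ 4 := by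
      rw [← k1]; exact card_dvd_of_le inf_le_left
    have h2 : Nat.card (Q₁ ⊓ Q₂ : Subgroup G) ∣ z := card_dvd_of_le (inf_le_inf l1 l2)
    have h3 : Nat.Coprime 4 z := by
      have : Nat.Coprime (2 ^ 2) z := Nat.Coprime.pow_left _ ((Nat.Prime.coprime_iff_not_dvd Nat.prime_two).2 ho.2.2)
      exact this
    have h4 := Nat.dvd_gcd h1 h2
    rwa [h3, Nat.dvd_one] at h4
  rw [k4, mul_one, k1, k2] at k3
  have comm4 : ∀ {Q : Subgroup G}, Nat.card Q = 4 → ∀ a ∈ Q, ∀ b ∈ Q, a * b = b * a := by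
    intro Q hQ a ha b hb
    have h1 : IsMulCommutative Q := IsPGroup.isMulCommutative_of_card_eq_prime_sq (p := 2) (by rw [hQ]; norm_num)
    exact congrArg Subtype.val (h1.is_comm.comm ⟨a, ha⟩ ⟨b, hb⟩)
  have hcomm : ∀ x ∈ Q₁ ⊔ Q₂, ∀ y ∈ Q₁ ⊔ Q₂, x * y = y * x := by
    have h1 : Q₁ ⊔ Q₂ ≤ centralizer ((Q₁ ⊔ Q₂ : Subgroup G) : Set G) := by
      have h2 : ∀ {C D : Subgroup G}, (∀ a ∈ C, ∀ b ∈ D, a * b = b * a) → C ≤ centralizer (D : Set G) := by
        intro C D hCD c hc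
        rw [mem_centralizer_iff]
        intro d hd
        exact (hCD c hc d hd).symm
      have h3 : ∀ {C : Subgroup G}, C ≤ centralizer (Q₁ : Set G) → C ≤ centralizer (Q₂ : Set G) →
          C ≤ centralizer ((Q₁ ⊔ Q₂ : Subgroup G) : Set G) := by
        intro C h4 h5
        rw [le_centralizer_iff] at h4 h5 ⊢
        exact sup_le h4 h5
      refine sup_le (h3 (h2 (comm4 k1)) (h2 hcQ)) (h3 (h2 fun a ha b hb => (hcQ b hb a ha).symm) (h2 (comm4 k2)))
    intro x hx y hy
    exact (mem_centralizer_iff.1 (h1 hx) y hy).symm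
  have hp : IsPGroup 2 (Q₁ ⊔ Q₂ : Subgroup G) := IsPGroup.of_card (n := 4) (by rw [k3]; norm_num)
  obtain ⟨S, hSle⟩ := hp.exists_le_sylow
  have hSc : Nat.card S = 16 := by
    have h1 : Nat.card (Q₁ ⊔ Q₂ : Subgroup G) ∣ Nat.card S := card_dvd_of_le hSle
    rw [k3] at h1
    obtain ⟨n, hn⟩ := IsPGroup.iff_card.1 S.2
    have h2 : Nat.card (S : Subgroup G) ∣ Nat.card G := card_subgroup_dvd_card _
    have h3 : n < 5 := by
      by_contra h4
      apply h32
      refine dvd_trans ?_ h2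
      rw [hn]
      exact pow_dvd_pow 2 (by omega : 5 ≤ n)
    have h5 : Nat.card S = 2 ^ n := hn
    rw [h5] at h1 ⊢
    interval_cases n <;> revert h1 <;> decide
  have hSe : (Q₁ ⊔ Q₂ : Subgroup G) = S := by
    refine eq_of_le_of_card_ge hSle ?_
    rw [k3]
    exact hSc.le
  refine hS S ⟨⟨fun x y => Subtype.ext ?_⟩⟩
  have hx : (x : G) ∈ Q₁ ⊔ Q₂ := by rw [hSe]; exact x.2
  have hy : (y : G) ∈ Q₁ ⊔ Q₂ := by rw [hSe]; exact y.2
  exact hcomm x hx y hy

/-! ### Commuting involutions are equal -/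

/-- an element of order 4 in a generalized quaternion group that is not central -/
theorem quat_elt {n : ℕ} (hn : 1 ≤ n) : ∃ a b : QuaternionGroup (2 ^ n), orderOf a = 4 ∧ a * b ≠ b * a := by
  refine ⟨QuaternionGroup.xa 0, QuaternionGroup.a 1, QuaternionGroup.orderOf_xa 0, ?_⟩
  rw [QuaternionGroup.xa_mul_a, QuaternionGroup.a_mul_xa]
  intro h
  have h1 : (0 + 1 : ZMod (2 * 2 ^ n)) = 0 - 1 := QuaternionGroup.xa.inj h
  have h2 : ((2 : ℕ) : ZMod (2 * 2 ^ n)) = 0 := by
    push_cast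
    linear_combination h1
  rw [ZMod.natCast_eq_zero_iff] at h2
  have h3 := Nat.le_of_dvd (by norm_num) h2
  have h4 : 2 ^ 1 ≤ 2 ^ n := Nat.pow_le_pow_right (by norm_num) hn
  omega

/-- Unique involution `z`: an element of order 4 and one not commuting with it. -/
theorem four_elt {G : Type*} [Group G] [Finite G] (h : Gen 3 (⊤ : Subgroup G)) (he : 2 ∣ Nat.card G) {z : G}
    (hz : ∀ u : G, orderOf u = 2 → u = z) : ∃ a b : G, orderOf a = 4 ∧ a * b ≠ b * a := by
  have : Fact (Nat.Prime 2) := ⟨Nat.prime_two⟩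
  obtain ⟨P⟩ : Nonempty (Sylow 2 G) := inferInstance
  have huniq : ∀ H K : Subgroup (P : Subgroup G), Nat.card H = 2 → Nat.card K = 2 → H = K := by
    have key : ∀ H : Subgroup (P : Subgroup G), Nat.card H = 2 → ∃ x : (P : Subgroup G), (x : G) = z ∧ H = zpowers x := by
      intro H hH
      obtain ⟨x, hx⟩ := exists_prime_orderOf_dvd_card' (G := H) 2 (by rw [hH])
      refine ⟨x, hz _ ?_, ?_⟩
      · rw [orderOf_coe, orderOf_coe, hx]
      · symm
        refine eq_of_le_of_card_ge (zpowers_le.2 x.2) ?_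
        rw [hH, Nat.card_zpowers, orderOf_coe, hx]
    intro H K hH hK
    obtain ⟨x, hx, rfl⟩ := key H hH
    obtain ⟨y, hy, rfl⟩ := key K hK
    rw [Subtype.ext (hx.trans hy.symm)]
  have ncyc : ¬ IsCyclic (P : Subgroup G) := by
    intro hc
    have hm : (Nat.card G).minFac = 2 := by
      rw [Nat.minFac_eq_two_iff]
      exact he
    exact no_compl h he P (IsCyclic.normalizer_le_centralizer hm hc)
  rcases S0016.result 2 P.2 huniq with hc | ⟨-, n, ⟨e⟩⟩
  · exact absurd hc ncyc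
  rcases Nat.eq_zero_or_pos n with rfl | hn
  · exfalso
    have := QuaternionGroup.quaternionGroup_one_isCyclic
    rw [pow_zero] at e
    exact ncyc (isCyclic_of_surjective e.symm e.symm.surjective)
  obtain ⟨a, b, ha, hab⟩ := quat_elt hn
  refine ⟨e.symm a, e.symm b, ?_, fun h => hab ?_⟩
  · rw [orderOf_coe, MulEquiv.orderOf_eq, ha]
  · have h1 : e.symm a * e.symm b = e.symm b * e.symm a := Subtype.ext h
    rw [← map_mul, ← map_mul] at h1
    exact e.symm.injective h1

theorem quat {G : Type*} [Group G] [Finite G] {D : Subgroup G}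
    (h1 : ∀ u v : G, u ∈ D → v ∈ D → orderOf u = 2 → orderOf v = 2 → u * v = v * u → u = v) {N₁ N₂ : Subgroup G}
    (g1 : Gen 3 N₁) (g2 : Gen 3 N₂) (e1 : 2 ∣ Nat.card N₁) (e2 : 2 ∣ Nat.card N₂)
    (hc : ∀ a ∈ N₁, ∀ b ∈ N₂, a * b = b * a) (d1 : ∀ a ∈ N₁, ∀ k : ℕ, a ^ 2 ^ k = 1 → a ∈ D)
    (d2 : ∀ a ∈ N₂, ∀ k : ℕ, a ^ 2 ^ k = 1 → a ∈ D) : False := by
  have : Fact (Nat.Prime 2) := ⟨Nat.prime_two⟩
  obtain ⟨z, hz⟩ := exists_prime_orderOf_dvd_card' (G := N₂) 2 e2
  obtain ⟨w, hw⟩ := exists_prime_orderOf_dvd_card' (G := N₁) 2 e1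
  have hz2 : orderOf (z : G) = 2 := by rw [orderOf_coe, hz]
  have hw2 : orderOf (w : G) = 2 := by rw [orderOf_coe, hw]
  have D1 : ∀ a ∈ N₁, orderOf a = 2 → a ∈ D := fun a ha h => d1 a ha 1 (by rw [pow_one, ← h, pow_orderOf_eq_one])
  have D2 : ∀ a ∈ N₂, orderOf a = 2 → a ∈ D := fun a ha h => d2 a ha 1 (by rw [pow_one, ← h, pow_orderOf_eq_one])
  have hzD : (z : G) ∈ D := D2 z z.2 hz2
  have hwD : (w : G) ∈ D := D1 w w.2 hw2
  have hwz : (w : G) = z := h1 w z hwD hzD hw2 hz2 (hc w w.2 z z.2)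
  have u1 : ∀ u : N₁, orderOf u = 2 → u = w := by
    intro u hu
    have hu2 : orderOf (u : G) = 2 := by rw [orderOf_coe, hu]
    refine Subtype.ext ?_
    rw [hwz]
    exact h1 u z (D1 u u.2 hu2) hzD hu2 hz2 (hc u u.2 z z.2)
  have u2 : ∀ u : N₂, orderOf u = 2 → u = z := by
    intro u hu
    have hu2 : orderOf (u : G) = 2 := by rw [orderOf_coe, hu]
    refine Subtype.ext ?_
    rw [← hwz]
    exact h1 u w (D2 u u.2 hu2) hwD hu2 hw2 (hc w w.2 u u.2).symm
  obtain ⟨a, b, ha, hab⟩ := four_elt g1.top e1 u1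
  obtain ⟨c, -, hc4, -⟩ := four_elt g2.top e2 u2
  have sq : ∀ {M : Subgroup G} {y x : M} (_ : ∀ u : M, orderOf u = 2 → u = y) (_ : orderOf x = 4),
      (x : G) * x = y := by
    intro M y x hu hx
    have h3 : orderOf (x * x) = 2 := by
      rw [← pow_two, orderOf_pow' x (by norm_num), hx]
      rfl
    exact congrArg Subtype.val (hu _ h3)
  have ha2 := sq u1 ha
  have hc2 := sq u2 hc4
  have hac := hc a a.2 c c.2
  have haD : (a : G) ∈ D := d1 a a.2 2 (by
    have : orderOf (a : G) = 4 := by rw [orderOf_coe, ha]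
    have h4 : (2 : ℕ) ^ 2 = orderOf (a : G) := by rw [this]; norm_num
    rw [h4, pow_orderOf_eq_one])
  have hcD : (c : G) ∈ D := d2 c c.2 2 (by
    have : orderOf (c : G) = 4 := by rw [orderOf_coe, hc4]
    have h4 : (2 : ℕ) ^ 2 = orderOf (c : G) := by rw [this]; norm_num
    rw [h4, pow_orderOf_eq_one])
  have hsq : ((a : G) * c) * (a * c) = 1 := by
    calc ((a : G) * c) * (a * c) = a * (c * a) * c := by group
      _ = a * (a * c) * c := by rw [hac]
      _ = (a * a) * (c * c) := by group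
      _ = z * z := by rw [ha2, hc2, hwz]
      _ = 1 := by rw [← pow_two, ← hz2, pow_orderOf_eq_one]
  have hmem : (a : G) ∈ N₂ := by
    by_cases h3 : (a : G) * c = 1
    · rw [mul_eq_one_iff_eq_inv.1 h3]
      exact N₂.inv_mem c.2
    · have h4 : orderOf ((a : G) * c) = 2 := orderOf_eq_prime (by rw [pow_two, hsq]) h3
      have h5 : (a : G) * c = z := by
        refine h1 _ z (D.mul_mem haD hcD) hzD h4 hz2 ?_
        have h6 : (z : G) = c * c := hc2.symm
        rw [h6]
        calc (a : G) * c * (c * c) = (a * c) * (c * c) := rfl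
          _ = (c * a) * (c * c) := by rw [hac]
          _ = c * (a * c) * c := by group
          _ = c * (c * a) * c := by rw [hac]
          _ = c * c * (a * c) := by group
      have h6 : (a : G) = z * (c : G)⁻¹ := by rw [← h5]; group
      rw [h6]
      exact N₂.mul_mem z.2 (N₂.inv_mem c.2)
  apply hab
  exact Subtype.ext (hc b b.2 a hmem).symm

/-! ### The main theorem -/

/-- an automorphism trivial on `N / Z(N)`, `N` perfect, is trivial -/
theorem aut_trivial {N : Type u} [Group N] (hN : commutator N = ⊤) {τ : MulAut N}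
    (h : ∀ x : N, x⁻¹ * τ x ∈ center N) : τ = 1 := by
  have h2 : (⊤ : Subgroup N) ≤ MonoidHom.eqLocus τ.toMonoidHom (MonoidHom.id N) := by
    rw [← hN, _root_.commutator_def, commutator_le]
    intro x _ y _
    show τ ⁅x, y⁆ = ⁅x, y⁆
    obtain ⟨c, hc, hx⟩ : ∃ c ∈ center N, τ x = x * c := ⟨_, h x, by group⟩
    obtain ⟨d, hd, hy⟩ : ∃ c ∈ center N, τ y = y * c := ⟨_, h y, by group⟩
    rw [mem_center_iff] at hc hd
    rw [commutatorElement_def, map_mul, map_mul, map_mul, map_inv, map_inv, hx, hy, mul_inv_rev, mul_inv_rev]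
    calc x * c * (y * d) * (c⁻¹ * x⁻¹) * (d⁻¹ * y⁻¹) = x * (c * (y * d)) * (c⁻¹ * x⁻¹) * (d⁻¹ * y⁻¹) := by group
      _ = x * ((y * d) * c) * (c⁻¹ * x⁻¹) * (d⁻¹ * y⁻¹) := by rw [hc (y * d)]
      _ = x * y * (d * x⁻¹) * d⁻¹ * y⁻¹ := by group
      _ = x * y * (x⁻¹ * d) * d⁻¹ * y⁻¹ := by rw [← hd x⁻¹]
      _ = x * y * x⁻¹ * y⁻¹ := by group
  ext x
  exact h2 (mem_top x)

/-- the action of a group on `A / Z(A)`, `A` normal -/
def act {G : Type u} [Group G] (A : Subgroup G) [A.Normal] : G →* MulAut (↥A ⧸ center ↥A) where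
  toFun g := QuotientGroup.congr (center A) (center A) (MulAut.conjNormal g)
    (Subgroup.characteristic_iff_map_eq.1 inferInstance _)
  map_one' := by
    ext x
    obtain ⟨x, rfl⟩ := QuotientGroup.mk'_surjective _ x
    rw [MulAut.one_apply]
    change QuotientGroup.mk' (center A) (MulAut.conjNormal 1 x) = _
    rw [map_one, MulAut.one_apply]
  map_mul' g h := by
    ext x
    obtain ⟨x, rfl⟩ := QuotientGroup.mk'_surjective _ x
    change QuotientGroup.mk' (center A) (MulAut.conjNormal (g * h) x) =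
      QuotientGroup.mk' (center A) (MulAut.conjNormal g (MulAut.conjNormal h x))
    rw [map_mul, MulAut.mul_apply]

theorem act_ker {G : Type u} [Group G] {A : Subgroup G} [A.Normal] (hA : commutator A = ⊤) {g : G}
    (hg : act A g = 1) : g ∈ centralizer (A : Set G) := by
  have h1 : (MulAut.conjNormal g : MulAut A) = 1 := by
    refine aut_trivial hA fun x => ?_
    have h2 : QuotientGroup.mk' (center A) (MulAut.conjNormal g x) = QuotientGroup.mk' (center A) x := by
      change act A g (QuotientGroup.mk' (center A) x) = _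
      rw [hg, MulAut.one_apply]
    exact QuotientGroup.eq.1 h2.symm
  rw [mem_centralizer_iff]
  intro a ha
  have h2 := congrArg Subtype.val (DFunLike.congr_fun h1 (⟨a, ha⟩ : A))
  rw [MulAut.conjNormal_apply, MulAut.one_apply] at h2
  have h3 : g * a * g⁻¹ = a := h2
  rw [mul_inv_eq_iff_eq_mul] at h3
  exact h3.symm

theorem conj_inj {F : Type v} [Field F] [Fintype F] (hF : Fintype.card F = 3) :
    Function.Injective (MulAut.conj : Matrix.ProjectiveSpecialLinearGroup (Fin 3) F →* MulAut _) := by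
  rw [injective_iff_map_eq_one]
  intro g hg
  have h3 : g ∈ center (Matrix.ProjectiveSpecialLinearGroup (Fin 3) F) := by
    rw [mem_center_iff]
    intro x
    have h2 := DFunLike.congr_fun hg x
    rw [MulAut.conj_apply, MulAut.one_apply, mul_inv_eq_iff_eq_mul] at h2
    exact h2.symm
  rwa [H974.LThree.center_bot hF, mem_bot] at h3

theorem not_comm_quasi {S : Type u} [Group S] (h : Cfsg.IsQuasiDihedral S) : ¬ IsMulCommutative S := by
  intro hc
  obtain ⟨n, hn, -, x, y, hx, hy, h1⟩ := h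
  have h2 : y * x = x * y := hc.is_comm.comm y x
  rw [h2, mul_inv_cancel_right] at h1
  have h3 : 2 ≤ 2 ^ (n - 1) - 1 := by
    have h4 : 2 ^ 2 ≤ 2 ^ (n - 1) := Nat.pow_le_pow_right (by norm_num) (by omega)
    omega
  have h5 : x ^ (2 ^ (n - 1) - 1 - 1) = 1 := by
    have h6 : x ^ (2 ^ (n - 1) - 1 - 1) * x = 1 * x := by
      rw [← pow_succ, one_mul, Nat.sub_add_cancel (by omega)]
      exact h1.symm
    exact mul_right_cancel h6
  have h6 := Nat.le_of_dvd (by omega) (orderOf_dvd_of_pow_eq_one h5)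
  rw [hx] at h6
  have h7 : 2 ^ (n - 1) < 2 ^ n := Nat.pow_lt_pow_right (by norm_num) (by omega)
  omega

theorem not_comm_wreathed {S : Type u} [Group S] (h : Cfsg.IsWreathed S) : ¬ IsMulCommutative S := by
  intro hc
  obtain ⟨n, hn, -, x, y, z, hx, -, h0, -, h1⟩ := h
  have h2 : z * x = x * z := hc.is_comm.comm z x
  rw [h2, mul_inv_cancel_right] at h1
  rw [← h1, inf_idem, zpowers_eq_bot] at h0
  rw [h0, orderOf_one] at hx
  have : 1 < 2 ^ n := Nat.one_lt_two_pow (by omega)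
  omega

/-- the image in `L₃(3)` -/
theorem pull {F : Type v} [Field F] [Fintype F] (hF : Fintype.card F = 3)
    {M : Subgroup (MulAut (Matrix.ProjectiveSpecialLinearGroup (Fin 3) F))} (hM : Gen 3 M) :
    Gen 3 (M.comap MulAut.conj) ∧ Nat.card (M.comap MulAut.conj) = Nat.card M := by
  have hinj := conj_inj hF
  have hle : M ≤ (MulAut.conj : Matrix.ProjectiveSpecialLinearGroup (Fin 3) F →* MulAut _).range := by
    refine hM.trans ((closure_le _).2 ?_)
    rintro g ⟨-, k, hk⟩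
    obtain ⟨y, hy⟩ := H974.LThree.oi hF g (by
      have h1 : orderOf g ∣ 3 ^ k := orderOf_dvd_of_pow_eq_one hk
      exact Odd.of_dvd_nat (Odd.pow (by decide)) h1)
    exact ⟨y, hy.symm⟩
  have hmap : (M.comap MulAut.conj).map MulAut.conj = M := map_comap_eq_self hle
  refine ⟨Gen.of_inj MulAut.conj hinj (by rw [hmap]; exact hM), ?_⟩
  rw [← card_map_of_injective hinj, hmap]

theorem no_com3 {K : Type u} [Group K] [Finite K] {x : MulAut K} (h : Cfsg.Agent.H974.Exc.Com3 3 x)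
    {A : Subgroup ↥(fixedSubgroup x)} (hn : A.Normal) (hA : IsQuasisimple ↥A) {F : Type v} [Field F] [Fintype F]
    (hF : Fintype.card F = 3) (e : (↥A ⧸ center ↥A) ≃* Matrix.ProjectiveSpecialLinearGroup (Fin 3) F)
    (h1 : ∀ u v : ↥(fixedSubgroup x), u ∈ centralizer (A : Set ↥(fixedSubgroup x)) →
      v ∈ centralizer (A : Set ↥(fixedSubgroup x)) → orderOf u = 2 → orderOf v = 2 → u * v = v * u → u = v) :
    False := by
  have hperf : commutator A = ⊤ := hA.1.commutator_eq_top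
  obtain ⟨N₁, N₂, N₃, m1, m2, m3, c12, c13, c23⟩ := h
  let ψ : ↥(fixedSubgroup x) →* MulAut (Matrix.ProjectiveSpecialLinearGroup (Fin 3) F) :=
    (MulAut.congr e).toMonoidHom.comp (act A)
  have hψ : ∀ g, ψ g = 1 → g ∈ centralizer (A : Set ↥(fixedSubgroup x)) := by
    intro g hg
    refine act_ker hperf ?_
    exact (MulAut.congr e).injective (hg.trans (map_one _).symm)
  have key : ∀ {N : Subgroup K} (m : H974.Exc.MM 3 x N), Gen 3 (N.subgroupOf (fixedSubgroup x)) ∧
      2 ∣ Nat.card (N.subgroupOf (fixedSubgroup x)) := by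
    intro N m
    have hle : N ≤ fixedSubgroup x := fun g hg => m.fix g hg
    refine ⟨Gen.subgroupOf hle m.gen, ?_⟩
    rw [Nat.card_congr (subgroupOfEquivOfLe hle).toEquiv]
    exact m.even.two_dvd
  have ckey : ∀ {N M : Subgroup K} (_ : ∀ a ∈ N, ∀ b ∈ M, a * b = b * a),
      ∀ a ∈ N.subgroupOf (fixedSubgroup x), ∀ b ∈ M.subgroupOf (fixedSubgroup x), a * b = b * a := by
    intro N M hc a ha b hb
    exact Subtype.ext (hc a ha b hb)
  have dich : ∀ {N M : Subgroup ↥(fixedSubgroup x)} (_ : Gen 3 N) (_ : Gen 3 M)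
      (_ : ∀ a ∈ N, ∀ b ∈ M, a * b = b * a), ¬ (2 ∣ Nat.card (N.map ψ) ∧ 2 ∣ Nat.card (M.map ψ)) := by
    rintro N M gN gM hc ⟨eN, eM⟩
    obtain ⟨p1, p2⟩ := pull hF (gN.map ψ)
    obtain ⟨q1, q2⟩ := pull hF (gM.map ψ)
    refine not_two (G := Matrix.ProjectiveSpecialLinearGroup (Fin 3) F) ?_ ?_ p1 q1 (by rwa [p2]) (by rwa [q2]) ?_
    · rw [H974.LThree.card_psl hF]; norm_num
    · intro S hS
      have h2 : 2 ∣ Nat.card (Matrix.ProjectiveSpecialLinearGroup (Fin 3) F) := by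
        rw [H974.LThree.card_psl hF]; norm_num
      rcases GH.Cov.SylowThree.psl_three (by rw [hF]; decide) (MulEquiv.refl _) h2 S with h | h
      · exact not_comm_quasi h hS
      · exact not_comm_wreathed h hS
    · intro a ha b hb
      obtain ⟨n, hn, hna⟩ := ha
      obtain ⟨m, hm, hmb⟩ := hb
      have h3 : MulAut.conj (a * b) = MulAut.conj (b * a) := by
        rw [map_mul, map_mul, ← hna, ← hmb, ← map_mul, ← map_mul, hc n hn m hm]
      exact conj_inj hF h3
  have fin : ∀ {N M : Subgroup ↥(fixedSubgroup x)} (_ : Gen 3 N) (_ : Gen 3 M) (_ : 2 ∣ Nat.card N)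
      (_ : 2 ∣ Nat.card M) (_ : ∀ a ∈ N, ∀ b ∈ M, a * b = b * a),
      ¬ (¬ 2 ∣ Nat.card (N.map ψ) ∧ ¬ 2 ∣ Nat.card (M.map ψ)) := by
    rintro N M gN gM eN eM hc ⟨oN, oM⟩
    have hd : ∀ {N : Subgroup ↥(fixedSubgroup x)} (_ : ¬ 2 ∣ Nat.card (N.map ψ)), ∀ a ∈ N, ∀ k : ℕ, a ^ 2 ^ k = 1 →
        a ∈ centralizer (A : Set ↥(fixedSubgroup x)) := by
      intro N oN a ha k hk
      refine hψ a ?_
      have h5 : orderOf (ψ a) ∣ 2 ^ k := orderOf_dvd_of_pow_eq_one (by rw [← map_pow, hk, map_one])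
      have h6 : orderOf (⟨ψ a, mem_map_of_mem ψ ha⟩ : N.map ψ) ∣ Nat.card (N.map ψ) := orderOf_dvd_natCard _
      rw [← orderOf_coe] at h6
      have h7 : Nat.Coprime (2 ^ k) (Nat.card (N.map ψ)) :=
        Nat.Coprime.pow_left _ ((Nat.Prime.coprime_iff_not_dvd Nat.prime_two).2 oN)
      have h8 := Nat.dvd_gcd h5 h6
      rw [h7] at h8
      rwa [Nat.dvd_one, orderOf_eq_one_iff] at h8
    exact quat h1 gN gM eN eM hc (hd oN) (hd oM)
  obtain ⟨a1, b1⟩ := key m1
  obtain ⟨a2, b2⟩ := key m2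
  obtain ⟨a3, b3⟩ := key m3
  have d12 := dich a1 a2 (ckey c12)
  have d13 := dich a1 a3 (ckey c13)
  have d23 := dich a2 a3 (ckey c23)
  have f12 := fin a1 a2 b1 b2 (ckey c12)
  have f13 := fin a1 a3 b1 b3 (ckey c13)
  have f23 := fin a2 a3 b2 b3 (ckey c23)
  tauto

end Cfsg.Agent.H811.QuatCom
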