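import Cfsg.Agent.H811.Sep
import Cfsg.Agent.H811.ReeB

/-!
# Characters of degree 26936 of `²G₂(27)` and modules in characteristic two

`RData Z P1 P B T`: a finite group `G` of order `10073444472` with the local structure of `²G₂(27)`
(`P` a Sylow `3`-subgroup with normalizer `B`, `T` self-centralizing of order `19`).

* `irr`: `indFun B F - indFun T θ` is an irreducible character for every nontrivial `θ : T →* ℂˣ`;
* `fixed`: in every irreducible representation in characteristic two `T` has a nonzero fixed vector.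
-/

set_option autoImplicit false

namespace Cfsg.Agent.H811.ReeG

open Cfsg IsLocalRing Module Cfsg.Agent.H608.BlockRank Cfsg.Agent.Blocks.Basic
open Cfsg.Agent.Blocks.Local Cfsg.Agent.H657 Cfsg.Agent.H811.Sep Cfsg.Agent.H811.ReeB
open Cfsg.Agent.Characters.Core
open scoped ComplexConjugate

attribute [local instance] Above.isAlgClosed

/-- The local structure of `²G₂(27)`. -/
structure RData {G : Type*} [Group G] (Z P1 P B T : Subgroup G) : Prop where
  bd : BData (Z.subgroupOf B) (P1.subgroupOf B) (P.subgroupOf B)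
  hPB : P ≤ B
  card_G : Nat.card G = 10073444472
  ti : ∀ g x, x ∈ P → x ≠ 1 → g * x * g⁻¹ ∈ P → g ∈ B
  card_T : Nat.card T = 19
  nT : Nat.card {g : G // ∀ x ∈ T, g * x * g⁻¹ ∈ T} = 114
  cT : ∀ y, (∀ x ∈ T, y * x = x * y) → y ∈ T

variable {G : Type*} [Group G] {Z P1 P B T : Subgroup G}

section ordinary

variable [Fintype G]

/-- The class function of the Borel subgroup. -/
noncomputable abbrev FB (Z P1 P B : Subgroup G) : B → ℂ :=
  F (Z.subgroupOf B) (P1.subgroupOf B) (P.subgroupOf B)

omit [Fintype G] in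
theorem card_B (h : RData Z P1 P B T) : Nat.card B = 511758 := h.bd.card_B

omit [Fintype G] in
theorem ext_F_of_not_mem (h : RData Z P1 P B T) {g : G} (hg : g ∉ P) :
    extendByZero B (FB Z P1 P B) g = 0 := by
  by_cases hB : g ∈ B
  · rw [extendByZero_of_mem B _ hB]
    exact F_of_not_mem h.bd fun h1 => hg (Subgroup.mem_subgroupOf.1 h1)
  · rw [extendByZero_of_notMem B _ hB]

/-- `indFun B F` at `1`. -/
theorem ind_one (h : RData Z P1 P B T) : indFun B (FB Z P1 P B) 1 = 530208224 := by
  have h1 : ∀ x : G, extendByZero B (FB Z P1 P B) (x⁻¹ * 1 * x) = 26936 := by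
    intro x
    rw [mul_one, inv_mul_cancel, extendByZero_of_mem B _ B.one_mem]
    exact F_one
  rw [indFun_apply, Finset.sum_congr rfl fun x _ => h1 x, Finset.sum_const, Finset.card_univ,
    ← Nat.card_eq_fintype_card, h.card_G, card_B h]
  norm_num

/-- `indFun B F` at nonidentity elements of `P`. -/
theorem ind_coe (h : RData Z P1 P B T) {b : B} (hb : (b : G) ∈ P) (hb1 : b ≠ 1) :
    indFun B (FB Z P1 P B) b = FB Z P1 P B b := by
  classical
  have h1 : ∀ x : G, extendByZero B (FB Z P1 P B) (x⁻¹ * b * x) =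
      (if x ∈ B then (1 : ℂ) else 0) * FB Z P1 P B b := by
    intro x
    by_cases hx : x ∈ B
    · rw [if_pos hx, one_mul, extendByZero_of_mem B _ (B.mul_mem (B.mul_mem (B.inv_mem hx) b.2) hx)]
      have := F_classFunction h.bd b ⟨x, hx⟩⁻¹
      refine Eq.trans ?_ this
      congr 1
      apply Subtype.ext
      simp
    · rw [if_neg hx, zero_mul]
      apply ext_F_of_not_mem h
      intro h2
      apply hx
      have h3 := h.ti x⁻¹ b hb (fun h' => hb1 (Subtype.ext h')) (by rwa [inv_inv])
      exact (B.inv_mem_iff).1 h3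
  rw [indFun_apply, Finset.sum_congr rfl fun x _ => h1 x,
    sum_ind B (fun _ => FB Z P1 P B b) (fun b => Classical.propDecidable _), Finset.sum_const,
    Finset.card_univ, ← Nat.card_eq_fintype_card, nsmul_eq_mul, ← mul_assoc,
    inv_mul_cancel₀ (Nat.cast_ne_zero.2 Nat.card_pos.ne'), one_mul]

/-- `indFun B F` at elements not conjugate into `P`. -/
theorem ind_zero (h : RData Z P1 P B T) {g : G} (hg : ∀ x : G, x⁻¹ * g * x ∉ P) :
    indFun B (FB Z P1 P B) g = 0 := by
  rw [indFun_apply, Finset.sum_congr rfl fun x _ => ext_F_of_not_mem h (hg x),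
    Finset.sum_const_zero, mul_zero]

/-- Sums over nontrivial normal subgroups of order `n` of `B`. -/
theorem sum_const_split {X : Type*} [Fintype X] (s t : Finset X) (hts : t ⊆ s) (f : X → ℂ) (c : ℂ)
    (hc : ∀ x ∈ s, x ∉ t → f x = c) :
    ∑ x ∈ s, f x = ∑ x ∈ t, f x + (s.card - t.card) * c := by
  classical
  rw [← Finset.sum_sdiff hts, Finset.sum_congr rfl (fun x hx => hc x (Finset.mem_sdiff.1 hx).1
    (Finset.mem_sdiff.1 hx).2), Finset.sum_const, nsmul_eq_mul, Finset.card_sdiff_of_subset hts,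
    Nat.cast_sub (Finset.card_le_card hts), add_comm]

omit [Fintype G] in
theorem sum_F_F (h : RData Z P1 P B T) [Fintype B] :
    ∑ b : B, FB Z P1 P B b * FB Z P1 P B b = 725672844 := by
  classical
  set Z' := Z.subgroupOf B with hZ'
  set P1' := P1.subgroupOf B with hP1'
  set P' := P.subgroupOf B with hP'
  have hZP1 : Z' ≤ P1' := h.bd.hZP1
  have hP1P : P1' ≤ P' := h.bd.hP1P
  have key : ∀ (X : Subgroup B), (Finset.univ.filter (· ∈ X)).card = Nat.card X := fun X => by
    rw [Nat.card_eq_fintype_card, Fintype.card_subtype]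
  have ks : ∀ (X : Subgroup B), ∑ x : X, FB Z P1 P B x =
      ∑ b ∈ Finset.univ.filter (· ∈ X), FB Z P1 P B b := fun X =>
    (Finset.sum_subtype _ (fun x => by simp) _).symm
  have e1 : ∀ x : B, x ∈ Z' → x ≠ 1 → FB Z P1 P B x = -37 := by
    intro x hx hx1
    show F Z' P1' P' x = _
    unfold F
    rw [if_neg hx1, if_pos hx, if_pos (hZP1 hx), if_pos (hP1P (hZP1 hx))]
    norm_num
  have e2 : ∀ x : B, x ∈ P1' → x ∉ Z' → FB Z P1 P B x = -10 := by
    intro x hx hx1
    show F Z' P1' P' x = _
    unfold F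
    rw [if_neg (fun h' : x = 1 => hx1 (h' ▸ Z'.one_mem)), if_neg hx1, if_pos hx, if_pos (hP1P hx)]
    norm_num
  have e3 : ∀ x : B, x ∈ P' → x ∉ P1' → FB Z P1 P B x = -1 := by
    intro x hx hx1
    show F Z' P1' P' x = _
    unfold F
    rw [if_neg (fun h' : x = 1 => hx1 (h' ▸ P1'.one_mem)), if_neg (fun h' => hx1 (hZP1 h')), if_neg hx1,
      if_pos hx]
    norm_num
  have e0 : FB Z P1 P B 1 = 26936 := F_one
  have sZ : ∑ x : Z', FB Z P1 P B x = 25974 := by
    rw [ks Z', sum_const_split (Finset.univ.filter (· ∈ Z')) {1} (by simp [Z'.one_mem]) _ (-37)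
      (fun x hx hx1 => e1 x (by simpa using hx) (by simpa using hx1)), Finset.sum_singleton, e0,
      key, h.bd.card_Z]
    norm_num
  have sP1 : ∑ x : P1', FB Z P1 P B x = 18954 := by
    rw [ks P1', sum_const_split (Finset.univ.filter (· ∈ P1')) (Finset.univ.filter (· ∈ Z'))
      (fun x hx => by
        simp only [Finset.mem_filter, Finset.mem_univ, true_and] at hx ⊢
        exact hZP1 hx) _ (-10)
      (fun x hx hx1 => e2 x (by simpa using hx) (by simpa using hx1)), ← ks Z', sZ,
      key, key, h.bd.card_Z, h.bd.card_P1]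
    norm_num
  have sP : ∑ x : P', FB Z P1 P B x = 0 := by
    rw [ks P', sum_const_split (Finset.univ.filter (· ∈ P')) (Finset.univ.filter (· ∈ P1'))
      (fun x hx => by
        simp only [Finset.mem_filter, Finset.mem_univ, true_and] at hx ⊢
        exact hP1P hx) _ (-1)
      (fun x hx hx1 => e3 x (by simpa using hx) (by simpa using hx1)), ← ks P1', sP1,
      key, key, h.bd.card_P1, h.bd.card_P]
    norm_num
  have := sum_F (Z := Z') (P1 := P1') (P := P') (fun b => FB Z P1 P B b)
  refine this.trans ?_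
  rw [e0, sZ, sP1, sP]
  norm_num

/-- The norm of `indFun B F`. -/
theorem norm_ind (h : RData Z P1 P B T) :
    classInner (indFun B (FB Z P1 P B)) (indFun B (FB Z P1 P B)) = 27907114 := by
  classical
  rw [Characters.Brauer.classInner_indFun B inferInstance _ _
    (Characters.Brauer.indFun_isClassFunction B _)]
  unfold classInner
  have h1 : ∀ b : B, FB Z P1 P B b * conj (indFun B (FB Z P1 P B) b) =
      FB Z P1 P B b * FB Z P1 P B b + (if b = 1 then (26936 : ℂ) * (530208224 - 26936) else 0) := by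
    intro b
    by_cases hb1 : b = 1
    · subst hb1
      have e0 : FB Z P1 P B 1 = 26936 := F_one
      rw [if_pos rfl, Subgroup.coe_one, ind_one h, e0]
      simp only [Complex.conj_ofNat]
      norm_num
    · rw [if_neg hb1, add_zero]
      by_cases hb : (b : G) ∈ P
      · rw [ind_coe h hb hb1]
        congr 1
        exact conj_F b
      · have : FB Z P1 P B b = 0 := F_of_not_mem h.bd fun h1 => hb (Subgroup.mem_subgroupOf.1 h1)
        rw [this, zero_mul, zero_mul]
  rw [Finset.sum_congr rfl fun b _ => h1 b, Finset.sum_add_distrib, sum_F_F h,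
    Finset.sum_ite_eq' Finset.univ (1 : B), if_pos (Finset.mem_univ _), card_B h]
  norm_num

/-! ### The subgroup `T` -/

omit [Fintype G] in
theorem fact19 : Fact (Nat.Prime 19) := ⟨by norm_num⟩

omit [Fintype G] in
theorem T_comm (h : RData Z P1 P B T) : ∀ x ∈ T, ∀ y ∈ T, x * y = y * x := by
  have := fact19
  have hc : IsCyclic T := isCyclic_of_prime_card (p := 19) h.card_T
  intro x hx y hy
  have h1 := hc.isMulCommutative.is_comm.comm (⟨x, hx⟩ : T) ⟨y, hy⟩
  exact congrArg Subtype.val h1

omit [Fintype G] in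
/-- A conjugate of `T` meeting `T` nontrivially is `T`. -/
theorem T_ti (h : RData Z P1 P B T) {x t : G} (ht : t ∈ T) (ht1 : t ≠ 1)
    (hx : x * t * x⁻¹ ∈ T) : ∀ y ∈ T, x * y * x⁻¹ ∈ T := by
  have := fact19
  intro y hy
  have h1 : (⟨y, hy⟩ : T) ∈ Subgroup.zpowers (⟨t, ht⟩ : T) :=
    mem_zpowers_of_prime_card h.card_T (fun h' => ht1 (congrArg Subtype.val h'))
  obtain ⟨k, hk⟩ := Subgroup.mem_zpowers_iff.1 h1
  have h2 : t ^ k = y := congrArg Subtype.val hk
  rw [← h2, ← conj_zpow]
  exact T.zpow_mem hx k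

omit [Fintype G] in
theorem T_injective (h : RData Z P1 P B T) {θ : T →* ℂˣ} (hθ : θ ≠ 1) :
    Function.Injective θ := by
  have := fact19
  rw [← MonoidHom.ker_eq_bot_iff]
  have hs : IsSimpleGroup T := isSimpleGroup_of_prime_card (p := 19) h.card_T
  rcases hs.eq_bot_or_eq_top_of_normal θ.ker inferInstance with h1 | h1
  · exact h1
  · exact absurd (MonoidHom.ker_eq_top_iff.1 h1) hθ

/-- The normalizer of `T`. -/
def Nm (T : Subgroup G) : Set G := {g | ∀ x ∈ T, g * x * g⁻¹ ∈ T}

open Classical in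
/-- The sum of `f * conj (indFun T θ)` over `T`. -/
theorem sum_mul_ind (h : RData Z P1 P B T) (θ : T →* ℂˣ) (f : T → ℂ) :
    ∑ t : T, f t * conj (indFun T (fun t => (θ t : ℂ)) t) =
      (19 : ℂ)⁻¹ * ∑ x : G, (if hx : x ∈ Nm T then
        ∑ t : T, f t * conj (θ ⟨x * t * x⁻¹, hx t t.2⟩ : ℂ) else f 1) := by
  have h1 : ∀ t : T, f t * conj (indFun T (fun t => (θ t : ℂ)) t) = (19 : ℂ)⁻¹ *
      ∑ x : G, f t * conj (extendByZero T (fun t => (θ t : ℂ)) (x * t * x⁻¹)) := by
    intro t
    rw [indFun_apply, h.card_T, map_mul, map_sum, map_inv₀, Complex.conj_natCast, ← Finset.mul_sum]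
    have h2 : ∑ x : G, conj (extendByZero T (fun t => (θ t : ℂ)) (x⁻¹ * t * x)) =
        ∑ x : G, conj (extendByZero T (fun t => (θ t : ℂ)) (x * t * x⁻¹)) :=
      Fintype.sum_equiv (Equiv.inv G) _ _ fun x => by simp
    rw [h2]
    push_cast
    ring
  rw [Finset.sum_congr rfl fun t _ => h1 t, ← Finset.mul_sum, Finset.sum_comm]
  congr 1
  refine Finset.sum_congr rfl fun x _ => ?_
  by_cases hx : x ∈ Nm T
  · rw [dif_pos hx]
    refine Finset.sum_congr rfl fun t _ => ?_
    rw [extendByZero_of_mem T _ (hx t t.2)]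
  · rw [dif_neg hx]
    rw [Finset.sum_eq_single (1 : T)]
    · rw [Subgroup.coe_one, mul_one, mul_inv_cancel, extendByZero_of_mem T _ T.one_mem]
      have : (⟨1, T.one_mem⟩ : T) = 1 := rfl
      rw [this, map_one]
      simp
    · intro t _ ht
      rw [extendByZero_of_notMem T _ (fun h2 => hx (T_ti h t.2 (fun h' => ht (Subtype.ext h')) h2)),
        map_zero, mul_zero]
    · intro h2
      exact absurd (Finset.mem_univ _) h2

/-- The conjugate of a linear character of `T`. -/
def tw (θ : T →* ℂˣ) {x : G} (hx : x ∈ Nm T) : T →* ℂˣ where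
  toFun t := θ ⟨x * t * x⁻¹, hx t t.2⟩
  map_one' := by
    have : (⟨x * (1 : T) * x⁻¹, hx _ (1 : T).2⟩ : T) = 1 := Subtype.ext (by simp)
    rw [this, map_one]
  map_mul' a b := by
    rw [← map_mul]
    congr 1
    apply Subtype.ext
    simp [mul_assoc]

omit [Fintype G] in
theorem inner_hom [Fintype T] (θ ψ : T →* ℂˣ) :
    ∑ t : T, (θ t : ℂ) * conj (ψ t : ℂ) = if θ = ψ then (Nat.card T : ℂ) else 0 := by
  classical
  have h1 : ∀ φ : T →* ℂˣ, IsIrrCharacter T (fun t => (φ t : ℂ)) := fun φ =>
    Characters.Linear.isIrrCharacter_hom φ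
  have h2 := classInner_irr (h1 θ) (h1 ψ)
  unfold classInner at h2
  have hc : (Nat.card T : ℂ) ≠ 0 := Nat.cast_ne_zero.2 Nat.card_pos.ne'
  rw [inv_mul_eq_iff_eq_mul₀ hc] at h2
  rw [h2]
  have h3 : ((fun t : T => (θ t : ℂ)) = fun t => (ψ t : ℂ)) ↔ θ = ψ := by
    constructor
    · intro h4
      ext t
      exact congrFun h4 t
    · rintro rfl
      rfl
  by_cases h4 : θ = ψ
  · rw [if_pos (h3.2 h4), if_pos h4, mul_one]
  · rw [if_neg (fun h5 => h4 (h3.1 h5)), if_neg h4, mul_zero]

open Classical in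
/-- The counting formula for sums over `G` of functions depending on membership in `Nm T`, `T`. -/
theorem sum_count (h : RData Z P1 P B T) (a b c : ℂ) :
    ∑ x : G, (if x ∈ Nm T then (if x ∈ T then a else b) else c) =
      19 * a + 95 * b + (10073444472 - 114) * c := by
  have h1 : ∀ x ∈ T, x ∈ Nm T := fun x hx y hy => T.mul_mem (T.mul_mem hx hy) (T.inv_mem hx)
  have h2 : ∀ x : G, (if x ∈ Nm T then (if x ∈ T then a else b) else c) =
      c + (if x ∈ Nm T then (b - c) else 0) + (if x ∈ T then (a - b) else 0) := by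
    intro x
    by_cases hx : x ∈ T
    · rw [if_pos (h1 x hx), if_pos (h1 x hx), if_pos hx, if_pos hx]
      ring
    · rw [if_neg hx, if_neg hx]
      by_cases hx' : x ∈ Nm T
      · rw [if_pos hx', if_pos hx']
        ring
      · rw [if_neg hx', if_neg hx']
        ring
  have h3 : (Finset.univ.filter (· ∈ Nm T)).card = 114 := by
    rw [← h.nT, Nat.card_eq_fintype_card, Fintype.card_subtype]
    congr 1
    ext x
    simp only [Finset.mem_filter, Finset.mem_univ, true_and]
    rfl
  have h4 : (Finset.univ.filter (· ∈ T)).card = 19 := by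
    rw [← h.card_T, Nat.card_eq_fintype_card, Fintype.card_subtype]
  rw [Finset.sum_congr rfl fun x _ => h2 x, Finset.sum_add_distrib, Finset.sum_add_distrib,
    Finset.sum_const, Finset.card_univ, ← Nat.card_eq_fintype_card, h.card_G,
    ← Finset.sum_filter, ← Finset.sum_filter, Finset.sum_const, Finset.sum_const, h3, h4]
  simp only [nsmul_eq_mul]
  push_cast
  ring

/-- The norm of `indFun T θ`. -/
theorem norm_T (h : RData Z P1 P B T) {θ : T →* ℂˣ} (hθ : θ ≠ 1) :
    classInner (indFun T (fun t => (θ t : ℂ))) (indFun T (fun t => (θ t : ℂ))) = 27904279 := by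
  classical
  rw [Characters.Brauer.classInner_indFun T inferInstance _ _
    (Characters.Brauer.indFun_isClassFunction T _)]
  unfold classInner
  rw [sum_mul_ind h θ (fun t => (θ t : ℂ)), h.card_T]
  have h1 : ∀ x : G, (if hx : x ∈ Nm T then
        ∑ t : T, (θ t : ℂ) * conj (θ ⟨x * t * x⁻¹, hx t t.2⟩ : ℂ) else (θ 1 : ℂ)) =
      (if x ∈ Nm T then (if x ∈ T then 19 else 0) else 1) := by
    intro x
    by_cases hx : x ∈ Nm T
    · rw [dif_pos hx, if_pos hx]
      have h2 := inner_hom θ (tw θ hx)
      refine h2.trans ?_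
      have h3 : θ = tw θ hx ↔ x ∈ T := by
        constructor
        · intro h4
          apply h.cT
          intro y hy
          have h5 : θ ⟨y, hy⟩ = θ ⟨x * y * x⁻¹, hx y hy⟩ := DFunLike.congr_fun h4 ⟨y, hy⟩
          have h6 := congrArg Subtype.val (T_injective h hθ h5)
          have h7 : y = x * y * x⁻¹ := h6
          calc x * y = x * y * x⁻¹ * x := by group
            _ = y * x := by rw [← h7]
        · intro h4
          ext t
          have h5 : (⟨x * t * x⁻¹, hx t t.2⟩ : T) = t := by
            apply Subtype.ext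
            show x * t * x⁻¹ = t
            rw [T_comm h x h4 t t.2, mul_inv_cancel_right]
          show (θ t : ℂ) = (θ ⟨x * t * x⁻¹, hx t t.2⟩ : ℂ)
          rw [h5]
      rw [h.card_T]
      by_cases h4 : x ∈ T
      · rw [if_pos (h3.2 h4), if_pos h4]
        norm_num
      · rw [if_neg (fun h5 => h4 (h3.1 h5)), if_neg h4]
    · rw [dif_neg hx, if_neg hx, map_one, Units.val_one]
  rw [Finset.sum_congr rfl fun x _ => h1 x, sum_count h]
  norm_num

open Classical in
/-- The sum of `indFun T θ` over `T`. -/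
theorem sum_T (h : RData Z P1 P B T) {θ : T →* ℂˣ} (hθ : θ ≠ 1) :
    ∑ t : T, conj (indFun T (fun t => (θ t : ℂ)) t) = 530181282 := by
  classical
  have h0 := sum_mul_ind h θ (fun _ => 1)
  simp only [one_mul] at h0
  rw [h0]
  have h1 : ∀ x : G, (if hx : x ∈ Nm T then
        ∑ t : T, conj (θ ⟨x * t * x⁻¹, hx t t.2⟩ : ℂ) else (1 : ℂ)) =
      (if x ∈ Nm T then (if x ∈ T then 0 else 0) else 1) := by
    intro x
    by_cases hx : x ∈ Nm T
    · rw [dif_pos hx, if_pos hx]
      have h2 := inner_hom 1 (tw θ hx)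
      have h3 : (1 : T →* ℂˣ) ≠ tw θ hx := by
        intro h4
        apply hθ
        have : Function.Surjective (fun t : T => (⟨x * t * x⁻¹, hx t t.2⟩ : T)) := by
          apply Finite.surjective_of_injective
          intro a b hab
          have h5 : x * (a : G) * x⁻¹ = x * b * x⁻¹ := congrArg Subtype.val hab
          exact Subtype.ext (by simpa using h5)
        ext t
        obtain ⟨s, hs⟩ := this t
        have h5 := DFunLike.congr_fun h4 s
        rw [← hs]
        show (θ ⟨x * s * x⁻¹, hx s s.2⟩ : ℂ) = ((1 : ℂˣ) : ℂ)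
        exact congrArg Units.val h5.symm
      rw [if_neg h3] at h2
      rw [ite_self, ← h2]
      refine Finset.sum_congr rfl fun t _ => ?_
      rw [MonoidHom.one_apply, Units.val_one, one_mul]
      rfl
    · rw [dif_neg hx, if_neg hx]
  rw [Finset.sum_congr rfl fun x _ => h1 x, sum_count h]
  norm_num

/-- `indFun B F` vanishes on `T`. -/
theorem ind_T (h : RData Z P1 P B T) {t : G} (ht : t ∈ T) (ht1 : t ≠ 1) :
    indFun B (FB Z P1 P B) t = 0 := by
  apply ind_zero h
  intro x hx
  have h1 : orderOf (x⁻¹ * t * x) = orderOf t := by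
    have := (MulAut.conj x⁻¹).orderOf_eq t
    rw [MulAut.conj_apply, inv_inv] at this
    exact this
  have h2 : orderOf (x⁻¹ * t * x) ∣ 19683 := by
    have h3 : Nat.card P = 19683 := by
      rw [← h.bd.card_P]
      exact (Nat.card_congr (Subgroup.subgroupOfEquivOfLe h.hPB).toEquiv).symm
    rw [← h3]
    exact P.orderOf_dvd_natCard hx
  have h3 : orderOf t ∣ 19 := by
    rw [← h.card_T]
    exact T.orderOf_dvd_natCard ht
  rw [h1] at h2
  have h4 : orderOf t ∣ Nat.gcd 19683 19 := Nat.dvd_gcd h2 h3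
  have h5 : Nat.gcd 19683 19 = 1 := by norm_num
  rw [h5, Nat.dvd_one, orderOf_eq_one_iff] at h4
  exact ht1 h4

/-- The mixed inner product. -/
theorem inner_T_B (h : RData Z P1 P B T) (θ : T →* ℂˣ) :
    classInner (indFun T (fun t => (θ t : ℂ))) (indFun B (FB Z P1 P B)) = 27905696 := by
  classical
  rw [Characters.Brauer.classInner_indFun T inferInstance _ _
    (Characters.Brauer.indFun_isClassFunction B _)]
  unfold classInner
  rw [h.card_T, Finset.sum_eq_single (1 : T)]
  · dsimp only
    rw [map_one, Subgroup.coe_one, ind_one h]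
    simp only [Complex.conj_ofNat, Units.val_one]
    norm_num
  · intro t _ ht
    dsimp only
    rw [ind_T h t.2 (fun h' => ht (Subtype.ext h')), map_zero, mul_zero]
  · intro h2
    exact absurd (Finset.mem_univ _) h2

/-- The irreducible character. -/
noncomputable def eta (Z P1 P B T : Subgroup G) (θ : T →* ℂˣ) : G → ℂ :=
  indFun B (FB Z P1 P B) - indFun T (fun t => (θ t : ℂ))

theorem eta_one (h : RData Z P1 P B T) (θ : T →* ℂˣ) : eta Z P1 P B T θ 1 = 26936 := by
  have h1 : indFun T (fun t => (θ t : ℂ)) 1 = 530181288 := by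
    have h1 : ∀ x : G, extendByZero T (fun t => (θ t : ℂ)) (x⁻¹ * 1 * x) = 1 := by
      intro x
      rw [mul_one, inv_mul_cancel, extendByZero_of_mem T _ T.one_mem]
      have : (⟨1, T.one_mem⟩ : T) = 1 := rfl
      rw [this, map_one, Units.val_one]
    rw [indFun_apply, Finset.sum_congr rfl fun x _ => h1 x, Finset.sum_const, Finset.card_univ,
      ← Nat.card_eq_fintype_card, h.card_G, h.card_T]
    norm_num
  unfold eta
  rw [Pi.sub_apply, ind_one h, h1]
  norm_num

theorem irr (h : RData Z P1 P B T) {θ : T →* ℂˣ} (hθ : θ ≠ 1) :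
    IsIrrCharacter G (eta Z P1 P B T θ) := by
  classical
  have hgen : IsGeneralizedCharacter G (eta Z P1 P B T θ) :=
    Characters.Brauer.isGeneralizedCharacter_sub
      (Characters.Brauer.isGeneralizedCharacter_indFun B (isGeneralized h.bd))
      (Characters.Brauer.isGeneralizedCharacter_indFun T
        (Characters.Brauer.isGeneralizedCharacter_of_isCharacter
          (CharDeep.LinearChar.isCharacter_of_hom θ)))
  have h1 : classInner (eta Z P1 P B T θ) (eta Z P1 P B T θ) = 1 := by
    have h2 := inner_T_B h θ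
    have h3 : classInner (indFun B (FB Z P1 P B)) (indFun T (fun t => (θ t : ℂ))) = 27905696 := by
      rw [← classInner_conj_symm, h2]
      exact Complex.conj_ofNat _
    unfold eta
    rw [classInner_sub_left, classInner_sub_right, classInner_sub_right, norm_ind h, norm_T h hθ,
      h2, h3]
    norm_num
  rcases isIrr_of_generalized hgen h1 with h2 | h2
  · exact h2
  · exfalso
    obtain ⟨n, hn, h3⟩ := isIrr_apply_one h2
    rw [Pi.neg_apply, eta_one h] at h3
    have h4 : (n : ℂ) + 26936 = 0 := by rw [← h3]; ring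
    have h5 : ((n + 26936 : ℕ) : ℂ) = 0 := by push_cast; exact h4
    exact absurd h5 (by exact_mod_cast (by omega : n + 26936 ≠ 0))

/-- `eta` vanishes at the elements of even order. -/
theorem eta_even (h : RData Z P1 P B T) (θ : T →* ℂˣ) {g : G} (hg : 2 ∣ orderOf g) :
    eta Z P1 P B T θ g = 0 := by
  have hconj : ∀ x : G, orderOf (x⁻¹ * g * x) = orderOf g := by
    intro x
    have := (MulAut.conj x⁻¹).orderOf_eq g
    rw [MulAut.conj_apply, inv_inv] at this
    exact this
  have h1 : ∀ x : G, x⁻¹ * g * x ∉ P := by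
    intro x hx
    have h3 : Nat.card P = 19683 := by
      rw [← h.bd.card_P]
      exact (Nat.card_congr (Subgroup.subgroupOfEquivOfLe h.hPB).toEquiv).symm
    have h2 : orderOf (x⁻¹ * g * x) ∣ 19683 := by
      rw [← h3]
      exact P.orderOf_dvd_natCard hx
    rw [hconj] at h2
    exact absurd (hg.trans h2) (by norm_num)
  have h2 : ∀ x : G, x⁻¹ * g * x ∉ T := by
    intro x hx
    have h2 : orderOf (x⁻¹ * g * x) ∣ 19 := by
      rw [← h.card_T]
      exact T.orderOf_dvd_natCard hx
    rw [hconj] at h2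
    exact absurd (hg.trans h2) (by norm_num)
  unfold eta
  rw [Pi.sub_apply, ind_zero h h1, indFun_apply,
    Finset.sum_congr rfl fun x _ => extendByZero_of_notMem T _ (h2 x), Finset.sum_const_zero,
    mul_zero, sub_zero]

theorem charDegree_eta (h : RData Z P1 P B T) (θ : T →* ℂˣ) :
    charDegree (eta Z P1 P B T θ) = 26936 := by
  unfold charDegree
  rw [eta_one h]
  norm_num

end ordinary

section modular

variable {V : ValuationSubring ℂ} {M : Ideal AlgInt}

/-- The separation property for `eta`. -/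
theorem sep_eta [Fintype G] (h : RData Z P1 P B T) (hM : IsPModular 2 M) (hV : Above M V)
    {θ : T →* ℂˣ} (hθ : θ ≠ 1) (i : IBr V G) :
    (∑ g, phi 2 i g * conj (eta Z P1 P B T θ g) = 0) ∨
      ∃ c : ℂ, c ≠ 0 ∧ phi 2 i = c • eta Z P1 P B T θ := by
  have : Fact (Nat.Prime 2) := ⟨Nat.prime_two⟩
  refine sep hM hV ⟨_, irr h hθ⟩ ?_ ?_ i
  · refine (Cfsg.Agent.S0914.result 2 M hM ⟨_, irr h hθ⟩).1 ?_
    show ¬ 2 ∣ Nat.card G / charDegree (eta Z P1 P B T θ)
    rw [charDegree_eta h, h.card_G]
    norm_num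
  · intro g hg
    apply eta_even h
    unfold IsPRegular at hg
    exact not_not.1 hg

theorem exists_deg {p : ℕ} [Fact p.Prime] [CharP (ResidueField V) p] (i : IBr V G) :
    ∃ d : ℕ, 0 < d ∧ phi p i 1 = d := by
  have hreg : IsPRegular p (1 : G) := by
    unfold IsPRegular
    rw [orderOf_one]
    have hp : p.Prime := Fact.out
    exact fun h => hp.one_lt.ne' (Nat.dvd_one.1 h)
  have h2 := lift_residue (p := p) (V := V) (z := 1) ⟨1, by
    have hp : p.Prime := Fact.out
    exact fun h => hp.one_lt.ne' (Nat.dvd_one.1 h), by simp⟩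
  rw [map_one] at h2
  refine ⟨i.deg, ?_, ?_⟩
  · have := finrank_ne_zero' i.rep i.rep_irr
    rw [Module.finrank_fin_fun] at this
    omega
  · rw [phi_of i hreg]
    unfold bc
    rw [map_one, LinearMap.charpoly_one, Module.finrank_fin_fun]
    have h3 : (Polynomial.X - 1 : Polynomial (ResidueField V)) =
      Polynomial.X - Polynomial.C 1 := by rw [Polynomial.C_1]
    rw [h3, Polynomial.roots_pow, Polynomial.roots_X_sub_C, Multiset.map_nsmul,
      Multiset.sum_nsmul, Multiset.map_singleton, Multiset.sum_singleton, h2]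
    simp

open Classical in
/-- The inner product of `φ` with `indFun B F`. -/
theorem phi_ind [Fintype G] (h : RData Z P1 P B T) (i : IBr V G) :
    511758 * classInner (phi 2 i) (indFun B (FB Z P1 P B)) = 26973 * phi 2 i 1 -
      27 * ∑ x : Z.subgroupOf B, phi 2 i (x : B) - 9 * ∑ x : P1.subgroupOf B, phi 2 i (x : B) -
      ∑ x : P.subgroupOf B, phi 2 i (x : B) := by
  have hcf := phi_isClassFunction 2 i
  have h1 : classInner (phi 2 i) (indFun B (FB Z P1 P B)) =
      conj (classInner (FB Z P1 P B) (fun b : B => phi 2 i b)) := by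
    rw [← Characters.Brauer.classInner_indFun B inferInstance _ _ hcf, classInner_conj_symm]
  have h2 : conj (classInner (FB Z P1 P B) (fun b : B => phi 2 i b)) =
      (511758 : ℂ)⁻¹ * ∑ b : B, FB Z P1 P B b * phi 2 i b := by
    unfold classInner
    rw [map_mul, map_sum, card_B h]
    have h3 : conj ((((511758 : ℕ) : ℂ))⁻¹) = (511758 : ℂ)⁻¹ := by
      rw [map_inv₀, Complex.conj_natCast]
      norm_num
    rw [h3]
    congr 1
    refine Finset.sum_congr rfl fun b _ => ?_
    rw [map_mul, Complex.conj_conj]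
    congr 1
    exact conj_F b
  rw [h1, h2, ← mul_assoc, mul_inv_cancel₀ (by norm_num), one_mul]
  exact sum_F (fun b : B => phi 2 i b)

/-- **Every irreducible representation in characteristic two has a nonzero vector fixed by `T`.** -/
theorem fixed [Finite G] (h : RData Z P1 P B T) (hM : IsPModular 2 M) (hV : Above M V)
    (i : IBr V G) : ∃ w, w ≠ 0 ∧ ∀ t ∈ T, i.rep t w = w := by
  classical
  have := Fintype.ofFinite G
  have f2 : Fact (Nat.Prime 2) := ⟨Nat.prime_two⟩
  have f19 := fact19
  have : CharP (ResidueField V) 2 := hV.charP hM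
  by_contra hcon
  push Not at hcon
  have hfix : ∀ w, (∀ t ∈ T, i.rep t w = w) → w = 0 := by
    intro w hw
    by_contra hw0
    obtain ⟨t, ht, ht'⟩ := hcon w hw0
    exact ht' (hw t ht)
  -- the sum over `T`
  have hT0 : ∑ t : T, phi 2 i t = 0 := by
    obtain ⟨n, h1, h2⟩ := sum_phi hM hV i T (by rw [h.card_T]; norm_num)
    rw [h1, h2 hfix, Nat.cast_zero, mul_zero]
  -- the degree
  obtain ⟨d, hd0, hd⟩ : ∃ d : ℕ, 0 < d ∧ phi 2 i 1 = d := exists_deg i
  obtain ⟨nZ, hnZ, -⟩ := sum_phi_hom hM hV i (B.subtype.comp (Z.subgroupOf B).subtype)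
    (by rw [h.bd.card_Z]; norm_num)
  obtain ⟨n1, hn1, -⟩ := sum_phi_hom hM hV i (B.subtype.comp (P1.subgroupOf B).subtype)
    (by rw [h.bd.card_P1]; norm_num)
  obtain ⟨nP, hnP, -⟩ := sum_phi_hom hM hV i (B.subtype.comp (P.subgroupOf B).subtype)
    (by rw [h.bd.card_P]; norm_num)
  have hB := phi_ind h i
  -- orthogonality
  have horth : ∀ θ : T →* ℂˣ, θ ≠ 1 →
      classInner (fun t : T => phi 2 i t) (fun t => (θ t : ℂ)) =
        classInner (phi 2 i) (indFun B (FB Z P1 P B)) := by
    intro θ hθ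
    rcases sep_eta h hM hV hθ i with h1 | ⟨c, hc, h1⟩
    · have h2 : classInner (phi 2 i) (eta Z P1 P B T θ) = 0 := by
        unfold classInner
        rw [h1, mul_zero]
      unfold eta at h2
      rw [classInner_sub_right, sub_eq_zero] at h2
      have h3 := Characters.Brauer.classInner_indFun T inferInstance (fun t => (θ t : ℂ)) (phi 2 i)
        (phi_isClassFunction 2 i)
      have h4 := congrArg conj h3
      rw [classInner_conj_symm, classInner_conj_symm] at h4
      rw [h2, h4]
    · exfalso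
      have h2 : ∑ t : T, phi 2 i t = c * ∑ t : T, eta Z P1 P B T θ t := by
        rw [h1, Finset.mul_sum]
        rfl
      have h3 : ∑ t : T, eta Z P1 P B T θ t = 26942 := by
        have h4 : ∑ t : T, indFun B (FB Z P1 P B) t = 530208224 := by
          rw [Finset.sum_eq_single (1 : T)]
          · exact ind_one h
          · intro t _ ht
            exact ind_T h t.2 (fun h' => ht (Subtype.ext h'))
          · intro h2
            exact absurd (Finset.mem_univ _) h2
        have h5 : ∑ t : T, indFun T (fun t => (θ t : ℂ)) t = 530181282 := by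
          have h6 := sum_T h hθ
          rw [← map_sum] at h6
          have h7 := congrArg conj h6
          rw [Complex.conj_conj] at h7
          rw [h7]
          exact Complex.conj_ofNat _
        have h6 : ∀ t : T, eta Z P1 P B T θ t =
            indFun B (FB Z P1 P B) t - indFun T (fun t => (θ t : ℂ)) t := fun t => rfl
        rw [Finset.sum_congr rfl fun t _ => h6 t, Finset.sum_sub_distrib, h4, h5]
        norm_num
      rw [h3, hT0] at h2
      rcases mul_eq_zero.1 h2.symm with h4 | h4
      · exact hc h4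
      · norm_num at h4
  -- a generator of the group of linear characters
  obtain ⟨θ, hθ⟩ : ∃ θ : T →* ℂˣ, θ ≠ 1 := by
    let _ : CommGroup T := { (inferInstance : Group T) with
      mul_comm := fun a b => Subtype.ext (T_comm h a a.2 b b.2) }
    have hT1 : T ≠ ⊥ := by
      intro h0
      have := h.card_T
      rw [h0, Subgroup.card_bot] at this
      norm_num at this
    obtain ⟨a, ha⟩ := Subgroup.ne_bot_iff_exists_ne_one.1 hT1
    obtain ⟨μ, hμ⟩ := CommGroup.exists_apply_ne_one_of_hasEnoughRootsOfUnity T ℂ (a := a) ha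
    refine ⟨μ, fun h' => hμ ?_⟩
    rw [h']
    rfl
  set c₀ : ℂ := classInner (phi 2 i) (indFun B (FB Z P1 P B)) with hc₀
  have hk : ∀ k ∈ Finset.range 19, k ≠ 0 → θ ^ k ≠ 1 := by
    intro k hk hk0 h1
    have h2 : orderOf θ ∣ k := orderOf_dvd_of_pow_eq_one h1
    have h3 : θ ^ 19 = 1 := by
      ext t
      have h4 : t ^ 19 = 1 := by
        rw [← h.card_T]
        exact pow_card_eq_one'
      show ((θ t ^ 19 : ℂˣ) : ℂ) = ((1 : ℂˣ) : ℂ)
      rw [← map_pow, h4, map_one]
    have h4 : orderOf θ ∣ 19 := orderOf_dvd_of_pow_eq_one h3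
    rcases (Nat.dvd_prime (by norm_num : Nat.Prime 19)).1 h4 with h5 | h5
    · exact hθ (orderOf_eq_one_iff.1 h5)
    · rw [h5] at h2
      have := Nat.le_of_dvd (by omega) h2
      rw [Finset.mem_range] at hk
      omega
  have hsum : ∑ k ∈ Finset.range 19,
      classInner (fun t : T => phi 2 i t) (fun t => ((θ ^ k) t : ℂ)) = d := by
    unfold classInner
    rw [← Finset.mul_sum, Finset.sum_comm]
    have h1 : ∀ t : T, ∑ k ∈ Finset.range 19, phi 2 i t * conj ((θ ^ k) t : ℂ) =
        if t = 1 then (19 : ℂ) * d else 0 := by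
      intro t
      rw [← Finset.mul_sum, ← map_sum]
      have h2 : ∑ k ∈ Finset.range 19, (((θ ^ k) t : ℂˣ) : ℂ) =
          ∑ k ∈ Finset.range 19, ((θ t : ℂˣ) : ℂ) ^ k :=
        Finset.sum_congr rfl fun k _ => by
          rw [MonoidHom.pow_apply, Units.val_pow_eq_pow_val]
      rw [h2]
      by_cases ht : t = 1
      · subst ht
        have h19 : conj (19 : ℂ) = 19 := Complex.conj_ofNat 19
        rw [if_pos rfl, Subgroup.coe_one, hd, map_one, Units.val_one]
        simp [h19]
        ring
      · rw [if_neg ht]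
        have h3 : ((θ t : ℂˣ) : ℂ) ≠ 1 := by
          intro h4
          apply ht
          apply T_injective h hθ
          rw [map_one]
          exact Units.ext h4
        have h4 : ((θ t : ℂˣ) : ℂ) ^ 19 = 1 := by
          have h5 : t ^ 19 = 1 := by
            rw [← h.card_T]
            exact pow_card_eq_one'
          rw [← Units.val_pow_eq_pow_val, ← map_pow, h5, map_one, Units.val_one]
        have h5 := mul_geom_sum ((θ t : ℂˣ) : ℂ) 19
        rw [h4, sub_self] at h5
        rw [(mul_eq_zero.1 h5).resolve_left (sub_ne_zero.2 h3), map_zero, mul_zero]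
    rw [Finset.sum_congr rfl fun t _ => h1 t, Finset.sum_ite_eq' Finset.univ (1 : T),
      if_pos (Finset.mem_univ _), h.card_T]
    push_cast
    ring
  have h18 : 18 * c₀ = d := by
    rw [← hsum, Finset.sum_range_succ' _ 18]
    have h0 : classInner (fun t : T => phi 2 i t) (fun t => ((θ ^ 0) t : ℂ)) = 0 := by
      unfold classInner
      have h1 : ∀ t : T, phi 2 i t * conj ((θ ^ 0) t : ℂ) = phi 2 i t := by
        intro t
        rw [pow_zero, MonoidHom.one_apply, Units.val_one, map_one, mul_one]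
      rw [Finset.sum_congr rfl fun t _ => h1 t, hT0, mul_zero]
    rw [h0, add_zero, Finset.sum_congr rfl (fun k hk' => horth (θ ^ (k + 1)) (hk (k + 1)
      (by rw [Finset.mem_range] at hk' ⊢; omega) (by omega)))]
    rw [Finset.sum_const, Finset.card_range]
    simp
  rw [h.bd.card_Z] at hnZ
  rw [h.bd.card_P1] at hn1
  rw [h.bd.card_P] at hnP
  have hZ' : ∑ x : Z.subgroupOf B, phi 2 i (x : B) = ((27 : ℕ) : ℂ) * nZ := hnZ
  have h1' : ∑ x : P1.subgroupOf B, phi 2 i (x : B) = ((729 : ℕ) : ℂ) * n1 := hn1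
  have hP' : ∑ x : P.subgroupOf B, phi 2 i (x : B) = ((19683 : ℕ) : ℂ) * nP := hnP
  rw [hZ', h1', hP', hd] at hB
  have hfin : ((511758 * d + 18 * (729 * nZ + 6561 * n1 + 19683 * nP) : ℕ) : ℂ) =
      ((485514 * d : ℕ) : ℂ) := by
    push_cast
    push_cast at hB
    linear_combination 18 * hB - 511758 * h18
  have hfin' : 511758 * d + 18 * (729 * nZ + 6561 * n1 + 19683 * nP) = 485514 * d := by
    exact_mod_cast hfin
  omega

end modular

end Cfsg.Agent.H811.ReeG
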