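import Cfsg.Agent.H811.ReeG
import Cfsg.Agent.ReeUniq.Law

/-!
# The Borel subgroup of `²G₂(27)`

For a group with the relations `Rel σ τ` over the field with 27 elements the subgroups `Z`, `P1`, `P`, `B`
satisfy `BData`.
-/

set_option autoImplicit false

namespace Cfsg.Agent.H811.ReeInst

open Cfsg.Agent.H811.ReeB Cfsg.Agent.ReeUniq
open scoped commutatorElement

variable {K : Type*} [Field K] {σ : K →+* K} {τ : K × K × K → K × K × K}
  {G : Type*} [Group G] (R : Rel σ τ G) (h3 : (3 : K) = 0)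

theorem inv_zero' (σ : K →+* K) : inv σ 0 = 0 := by simp [inv]

include R h3 in
theorem U_injective : Function.Injective R.U := by
  intro p q h
  have h1 := R.U_smul h3 p (some 0)
  rw [h, R.U_smul h3] at h1
  have h2 := R.pt_injective h3 h1
  simp only [Option.map_some, mul_zero', Option.some.injEq] at h2
  exact h2.symm

/-- The centre. -/
def Z : Subgroup G where
  carrier := {g | ∃ c, g = R.U (0, 0, c)}
  one_mem' := ⟨0, R.U_zero.symm⟩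
  mul_mem' := by
    rintro _ _ ⟨c, rfl⟩ ⟨c', rfl⟩
    exact ⟨c + c', by rw [← R.U_mul]; simp [mul]⟩
  inv_mem' := by
    rintro _ ⟨c, rfl⟩
    exact ⟨-c, by rw [R.U_inv h3]; simp [inv]⟩

/-- The derived subgroup. -/
def P1 : Subgroup G where
  carrier := {g | ∃ b c, g = R.U (0, b, c)}
  one_mem' := ⟨0, 0, R.U_zero.symm⟩
  mul_mem' := by
    rintro _ _ ⟨b, c, rfl⟩ ⟨b', c', rfl⟩
    exact ⟨b + b', c + c', by rw [← R.U_mul]; simp [mul]⟩
  inv_mem' := by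
    rintro _ ⟨b, c, rfl⟩
    exact ⟨-b, -c, by rw [R.U_inv h3]; simp [inv]⟩

/-- The unipotent radical. -/
def P : Subgroup G where
  carrier := {g | ∃ p, g = R.U p}
  one_mem' := ⟨0, R.U_zero.symm⟩
  mul_mem' := by
    rintro _ _ ⟨p, rfl⟩ ⟨q, rfl⟩
    exact ⟨_, (R.U_mul p q).symm⟩
  inv_mem' := by
    rintro _ ⟨p, rfl⟩
    exact ⟨_, R.U_inv h3 p⟩

theorem mem_Z {g : G} : g ∈ Z R h3 ↔ ∃ c, g = R.U (0, 0, c) := Iff.rfl
theorem mem_P1 {g : G} : g ∈ P1 R h3 ↔ ∃ b c, g = R.U (0, b, c) := Iff.rfl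
theorem mem_P {g : G} : g ∈ P R h3 ↔ ∃ p, g = R.U p := Iff.rfl

theorem Z_le : Z R h3 ≤ P1 R h3 := by
  rintro _ ⟨c, rfl⟩
  exact ⟨0, c, rfl⟩

theorem P1_le : P1 R h3 ≤ P R h3 := by
  rintro _ ⟨b, c, rfl⟩
  exact ⟨_, rfl⟩

theorem P_le : P R h3 ≤ R.B h3 := by
  rintro _ ⟨p, rfl⟩
  exact R.U_mem h3 p

include h3 in
theorem conj_U (q p : K × K × K) : R.U q * R.U p * (R.U q)⁻¹ = R.U (mul σ (mul σ q p) (inv σ q)) := by
  rw [R.U_inv h3, R.U_mul, R.U_mul]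

theorem conj_h (a : Kˣ) (p : K × K × K) : R.h a * R.U p * (R.h a)⁻¹ = R.U (dil σ a p) := by
  rw [R.h_U, mul_inv_cancel_right]

theorem conj_B (g : G) (hg : g ∈ R.B h3) (p : K × K × K) :
    ∃ q a, g * R.U p * g⁻¹ = R.U (mul σ (mul σ q (dil σ (a : Kˣ) p)) (inv σ q)) := by
  obtain ⟨q, a, rfl⟩ := hg
  refine ⟨q, a, ?_⟩
  rw [← conj_U R h3, ← conj_h R]
  group

/-- The first coordinate of a conjugate. -/
theorem conj_fst (q p : K × K × K) : (mul σ (mul σ q p) (inv σ q)).1 = p.1 := by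
  simp [mul, inv]

include h3 in
/-- Conjugates of elements of `P1`. -/
theorem conj_snd (q : K × K × K) (b c : K) :
    mul σ (mul σ q (0, b, c)) (inv σ q) = (0, b, c - b * (inv σ q).1) := by
  obtain ⟨x, y, z⟩ := q
  simp only [mul, inv, map_neg, map_zero, Prod.mk.injEq]
  refine ⟨by ring, by ring, ?_⟩
  linear_combination (x ^ 2 * σ x) * h3

theorem nZ : ((Z R h3).subgroupOf (R.B h3)).Normal := by
  refine ⟨?_⟩
  rintro ⟨_, hn⟩ ⟨c, hc⟩ ⟨g, hg⟩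
  simp only [Subgroup.subtype_apply] at hc
  subst hc
  obtain ⟨q, a, h⟩ := conj_B R h3 g hg (0, 0, c)
  refine ⟨a ^ 2 * σ a * c, ?_⟩
  refine Eq.trans h ?_
  congr 1
  have e : dil σ (a : K) (0, 0, c) = (0, 0, a ^ 2 * σ a * c) := by simp [dil]
  rw [e, conj_snd h3]
  simp

theorem nP1 : ((P1 R h3).subgroupOf (R.B h3)).Normal := by
  refine ⟨?_⟩
  rintro ⟨_, hn⟩ ⟨b, c, hc⟩ ⟨g, hg⟩
  simp only [Subgroup.subtype_apply] at hc
  subst hc
  obtain ⟨q, a, h⟩ := conj_B R h3 g hg (0, b, c)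
  refine ⟨a * σ a * b, a ^ 2 * σ a * c - a * σ a * b * (inv σ q).1, ?_⟩
  refine Eq.trans h ?_
  congr 1
  have e : dil σ (a : K) (0, b, c) = (0, a * σ a * b, a ^ 2 * σ a * c) := by simp [dil]
  rw [e, conj_snd h3]

theorem nP : ((P R h3).subgroupOf (R.B h3)).Normal := by
  refine ⟨?_⟩
  rintro ⟨_, hn⟩ ⟨p, hc⟩ ⟨g, hg⟩
  simp only [Subgroup.subtype_apply] at hc
  subst hc
  obtain ⟨q, a, h⟩ := conj_B R h3 g hg p
  exact ⟨_, h⟩

theorem card_Z : Nat.card (Z R h3) = Nat.card K := by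
  refine (Nat.card_congr (Equiv.ofBijective (fun c : K => (⟨R.U (0, 0, c), ⟨c, rfl⟩⟩ : Z R h3)) ⟨?_, ?_⟩)).symm
  · intro c c' h
    have h1 := U_injective R h3 (congrArg Subtype.val h)
    simpa using h1
  · rintro ⟨_, c, rfl⟩
    exact ⟨c, rfl⟩

theorem card_P1 : Nat.card (P1 R h3) = Nat.card K ^ 2 := by
  rw [← Nat.card_congr (Equiv.ofBijective
    (fun c : K × K => (⟨R.U (0, c.1, c.2), ⟨c.1, c.2, rfl⟩⟩ : P1 R h3)) ⟨?_, ?_⟩), Nat.card_prod, sq]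
  · intro c c' h
    have h1 := U_injective R h3 (congrArg Subtype.val h)
    simp only [Prod.mk.injEq, true_and] at h1
    exact Prod.ext h1.1 h1.2
  · rintro ⟨_, b, c, rfl⟩
    exact ⟨(b, c), rfl⟩

theorem card_P : Nat.card (P R h3) = Nat.card K ^ 3 := by
  rw [← Nat.card_congr (Equiv.ofBijective
    (fun c : K × K × K => (⟨R.U c, ⟨c, rfl⟩⟩ : P R h3)) ⟨?_, ?_⟩), Nat.card_prod, Nat.card_prod]
  · ring
  · intro c c' h
    exact U_injective R h3 (congrArg Subtype.val h)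
  · rintro ⟨_, c, rfl⟩
    exact ⟨c, rfl⟩

theorem index_B [Finite K] : (R.B h3).index = Nat.card K ^ 3 + 1 := by
  have : Fintype K := Fintype.ofFinite K
  rw [Subgroup.index, ← Nat.card_congr (R.ptEquiv h3), Nat.card_eq_fintype_card, Fintype.card_option,
    Fintype.card_prod, Fintype.card_prod, Nat.card_eq_fintype_card]
  ring

theorem ti (g x : G) (hx : x ∈ P R h3) (hx1 : x ≠ 1) (hg : g * x * g⁻¹ ∈ P R h3) : g ∈ R.B h3 := by
  obtain ⟨p, rfl⟩ := hx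
  obtain ⟨p', hp'⟩ := hg
  have hp0 : p ≠ 0 := by
    rintro rfl
    exact hx1 R.U_zero
  obtain ⟨y, hy⟩ := R.pt_surjective h3 (g⁻¹ • R.pt h3 none)
  have h1 : R.U p • R.pt h3 y = R.pt h3 y := by
    rw [hy]
    have h2 : R.U p' • R.pt h3 none = R.pt h3 none := by rw [R.U_smul]; rfl
    rw [← hp', mul_smul, mul_smul] at h2
    rw [eq_inv_smul_iff, ← h2]
    simp only [h2]
  rw [R.U_smul] at h1
  have h4 := R.pt_injective h3 h1
  rcases y with _ | q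
  · have h5 : R.pt h3 none = (QuotientGroup.mk 1 : G ⧸ R.B h3) := rfl
    rw [h5] at hy
    have h6 : (QuotientGroup.mk 1 : G ⧸ R.B h3) = QuotientGroup.mk (g⁻¹ * 1) := hy
    rw [QuotientGroup.eq, mul_one, inv_one, one_mul] at h6
    exact (Subgroup.inv_mem_iff _).1 h6
  · exfalso
    apply hp0
    simp only [Option.map_some, Option.some.injEq] at h4
    have h5 : R.U p * R.U q = 1 * R.U q := by rw [← R.U_mul, h4, one_mul]
    have h6 := mul_right_cancel h5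
    rw [← R.U_zero] at h6
    exact U_injective R h3 h6

/-- Elements of `P1` with the same second coordinate. -/
theorem eq_mul_Z (b c c' : K) : ∃ z ∈ Z R h3, R.U (0, b, c) = R.U (0, b, c') * z :=
  ⟨R.U (0, 0, c - c'), ⟨_, rfl⟩, by rw [← R.U_mul]; simp [mul]⟩

/-- Elements of `P` with the same first coordinate. -/
theorem eq_mul_P1 (a b c b' c' : K) : ∃ z ∈ P1 R h3, R.U (a, b, c) = R.U (a, b', c') * z :=
  ⟨R.U (0, b - b', c - c'), ⟨_, _, rfl⟩, by rw [← R.U_mul]; simp [mul]⟩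

include h3 in
theorem inv_P1 (b c : K) : (R.U (0, b, c))⁻¹ = R.U (0, -b, -c) := by
  rw [R.U_inv h3]; simp [inv]

theorem tP (x : G) (hx : x ∈ P R h3) (hx1 : x ∉ P1 R h3) (y : G) (hy : y ∈ P R h3) (hy1 : y ∉ P1 R h3) :
    ∃ b ∈ R.B h3, ∃ z ∈ P1 R h3, b * x * b⁻¹ = y * z := by
  obtain ⟨⟨a, b, c⟩, rfl⟩ := hx
  obtain ⟨⟨a', b', c'⟩, rfl⟩ := hy
  have hc : a ≠ 0 := by rintro rfl; exact hx1 ⟨b, c, rfl⟩
  have hc' : a' ≠ 0 := by rintro rfl; exact hy1 ⟨b', c', rfl⟩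
  refine ⟨R.h (Units.mk0 (a' / a) (div_ne_zero hc' hc)), R.h_mem h3 _, ?_⟩
  rw [conj_h]
  have e : dil σ ((Units.mk0 (a' / a) (div_ne_zero hc' hc) : Kˣ) : K) (a, b, c) =
      (a', (a' / a) * σ (a' / a) * b, (a' / a) ^ 2 * σ (a' / a) * c) := by
    rw [Units.val_mk0]
    simp only [dil, div_mul_cancel₀ _ hc]
  rw [e]
  exact eq_mul_P1 R h3 _ _ _ _ _

theorem cZ (x : G) (hx : x ∈ P1 R h3) (hx1 : x ∉ Z R h3) (z : G) (hz : z ∈ Z R h3) :
    ∃ u ∈ R.B h3, u * x * u⁻¹ = x * z := by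
  obtain ⟨b, c, rfl⟩ := hx
  obtain ⟨d, rfl⟩ := hz
  have hc : b ≠ 0 := by rintro rfl; exact hx1 ⟨c, rfl⟩
  refine ⟨R.U (d / b, 0, 0), R.U_mem h3 _, ?_⟩
  rw [conj_U R h3, conj_snd h3, ← R.U_mul]
  congr 1
  simp only [inv, mul, mul_neg, mul_div_cancel₀ _ hc, Prod.mk.injEq]
  simp only [map_zero, mul_zero, sub_zero, add_zero, sub_neg_eq_add, true_and]

theorem comm (x : G) (hx : x ∈ P1 R h3) (y : G) (hy : y ∈ P1 R h3) : x * y = y * x := by
  obtain ⟨b, c, rfl⟩ := hx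
  obtain ⟨b', c', rfl⟩ := hy
  rw [← R.U_mul, ← R.U_mul]
  congr 1
  simp [mul, add_comm]

theorem comm_le : ⁅P R h3, P R h3⁆ ≤ P1 R h3 := by
  rw [Subgroup.commutator_le]
  rintro _ ⟨p, rfl⟩ _ ⟨q, rfl⟩
  rw [commutatorElement_def, R.U_inv h3, R.U_inv h3, ← R.U_mul, ← R.U_mul, ← R.U_mul]
  refine ⟨_, _, congrArg _ (Prod.ext ?_ rfl)⟩
  simp [mul, inv]

theorem Z_le_comm : Z R h3 ≤ ⁅P R h3, P R h3⁆ := by
  rintro _ ⟨c, rfl⟩
  have h1 : R.U (0, 0, c) = ⁅R.U (0, -c, 0), R.U (1, 0, 0)⁆ := by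
    rw [commutatorElement_def, R.U_inv h3, R.U_inv h3, ← R.U_mul, ← R.U_mul, ← R.U_mul]
    congr 1
    simp only [mul, inv, map_neg, map_zero, map_one, map_add, map_sub]
    refine Prod.ext ?_ (Prod.ext ?_ ?_)
    · simp
    · simp
    · simp
      linear_combination -h3
  rw [h1]
  exact Subgroup.commutator_mem_commutator ((mem_P R h3).2 ⟨_, rfl⟩) ((mem_P R h3).2 ⟨_, rfl⟩)

theorem exists_mem_comm (a : K) : ∃ c, R.U (0, σ a - a, c) ∈ ⁅P R h3, P R h3⁆ := by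
  have h1 : ∃ c, R.U (0, σ a - a, c) = ⁅R.U (a, 0, 0), R.U (1, 0, 0)⁆ := by
    rw [commutatorElement_def, R.U_inv h3, R.U_inv h3, ← R.U_mul, ← R.U_mul, ← R.U_mul]
    refine ⟨_, congrArg _ (Prod.ext ?_ (Prod.ext ?_ rfl))⟩
    · simp [mul, inv]
    · simp only [mul, inv, map_neg, map_zero, map_one, map_add, map_sub]
      ring
  obtain ⟨c, hc⟩ := h1
  refine ⟨c, ?_⟩
  rw [hc]
  exact Subgroup.commutator_mem_commutator ((mem_P R h3).2 ⟨_, rfl⟩) ((mem_P R h3).2 ⟨_, rfl⟩)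

theorem conj_mem_comm (a : Kˣ) {g : G} (hg : g ∈ ⁅P R h3, P R h3⁆) :
    R.h a * g * (R.h a)⁻¹ ∈ ⁅P R h3, P R h3⁆ := by
  have h1 : (P R h3).map (MulAut.conj (R.h a)).toMonoidHom ≤ P R h3 := by
    rintro _ ⟨_, ⟨p, rfl⟩, rfl⟩
    exact ⟨_, conj_h R a p⟩
  have h2 := Subgroup.mem_map_of_mem (MulAut.conj (R.h a)).toMonoidHom hg
  rw [Subgroup.map_commutator] at h2
  exact Subgroup.commutator_mono h1 h1 h2

section field

variable [Fintype K] (hK : Fintype.card K = 27) (hσ : ∀ x, σ x = x ^ 9)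

include hK in
theorem pow_26 {u : K} (hu : u ≠ 0) : u ^ 26 = 1 := by
  have := FiniteField.pow_card_sub_one_eq_one u hu
  rwa [hK] at this

include hK hσ in
theorem exists_eleven {c c' : K} (hc : c ≠ 0) (hc' : c' ≠ 0) : ∃ a : Kˣ, (a : K) ^ 2 * σ a * c = c' := by
  have hu : c' / c ≠ 0 := div_ne_zero hc' hc
  refine ⟨Units.mk0 _ hu ^ 19, ?_⟩
  rw [hσ, Units.val_pow_eq_pow_val, Units.val_mk0]
  have h1 : ((c' / c) ^ 19) ^ 2 * ((c' / c) ^ 19) ^ 9 = c' / c := by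
    calc _ = ((c' / c) ^ 26) ^ 8 * (c' / c) := by ring
      _ = _ := by rw [pow_26 hK hu, one_pow, one_mul]
  rw [h1, div_mul_cancel₀ _ hc]

include hK hσ in
theorem exists_ten {c c' : K} (hc : c ≠ 0) (hc' : c' ≠ 0) :
    ∃ a : Kˣ, (a : K) * σ a * c = c' ∨ (a : K) * σ a * c = -c' := by
  have hu : c' / c ≠ 0 := div_ne_zero hc' hc
  have h2 : (c' / c) ^ 13 = 1 ∨ (c' / c) ^ 13 = -1 := by
    rw [← sq_eq_one_iff, ← pow_mul]
    exact pow_26 hK hu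
  refine ⟨Units.mk0 _ hu ^ 4, ?_⟩
  rw [hσ, Units.val_pow_eq_pow_val, Units.val_mk0]
  have h1 : (c' / c) ^ 4 * ((c' / c) ^ 4) ^ 9 = ((c' / c) ^ 13) * ((c' / c) ^ 26) * (c' / c) := by ring
  rw [h1, pow_26 hK hu, mul_one]
  rcases h2 with h2 | h2
  · left
    rw [h2, one_mul, div_mul_cancel₀ _ hc]
  · right
    rw [h2, neg_one_mul, neg_mul, div_mul_cancel₀ _ hc]

include hK in
theorem exists_nine : ∃ a : K, a - a ^ 9 ≠ 0 := by
  classical
  by_contra hcon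
  push Not at hcon
  have h1 : (Polynomial.X - Polynomial.X ^ 9 : Polynomial K) ≠ 0 := by
    intro h
    have h2 := congrArg (fun f => Polynomial.coeff f 1) h
    simp [Polynomial.coeff_X_pow] at h2
  have h2 := Polynomial.card_le_degree_of_subset_roots (p := (Polynomial.X - Polynomial.X ^ 9 : Polynomial K))
    (Z := Finset.univ) (by
      intro x _
      rw [Polynomial.mem_roots h1]
      simp [Polynomial.IsRoot, hcon x])
  rw [Finset.card_univ, hK] at h2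
  have h4 : (Polynomial.X - Polynomial.X ^ 9 : Polynomial K).natDegree ≤ 9 := by
    compute_degree
  omega

include hK hσ in
theorem tZ (x : G) (hx : x ∈ Z R h3) (hx1 : x ≠ 1) (y : G) (hy : y ∈ Z R h3) (hy1 : y ≠ 1) :
    ∃ b ∈ R.B h3, b * x * b⁻¹ = y := by
  obtain ⟨c, rfl⟩ := hx
  obtain ⟨c', rfl⟩ := hy
  have hc : c ≠ 0 := by rintro rfl; exact hx1 R.U_zero
  have hc' : c' ≠ 0 := by rintro rfl; exact hy1 R.U_zero
  obtain ⟨a, ha⟩ := exists_eleven hK hσ hc hc'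
  refine ⟨R.h a, R.h_mem h3 a, ?_⟩
  rw [conj_h]
  congr 1
  simp only [dil, mul_zero, Prod.mk.injEq, true_and]
  exact ha

include hK hσ in
theorem tP1 (x : G) (hx : x ∈ P1 R h3) (hx1 : x ∉ Z R h3) (y : G) (hy : y ∈ P1 R h3) (hy1 : y ∉ Z R h3) :
    ∃ b ∈ R.B h3, ∃ z ∈ Z R h3, b * x * b⁻¹ = y * z ∨ b * x * b⁻¹ = y⁻¹ * z := by
  obtain ⟨b, c, rfl⟩ := hx
  obtain ⟨b', c', rfl⟩ := hy
  have hc : b ≠ 0 := by rintro rfl; exact hx1 ⟨c, rfl⟩
  have hc' : b' ≠ 0 := by rintro rfl; exact hy1 ⟨c', rfl⟩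
  obtain ⟨a, ha⟩ := exists_ten hK hσ hc hc'
  refine ⟨R.h a, R.h_mem h3 a, ?_⟩
  rw [conj_h]
  have e : dil σ (a : K) (0, b, c) = (0, a * σ a * b, a ^ 2 * σ a * c) := by simp [dil]
  rw [e, inv_P1 R h3]
  rcases ha with ha | ha
  · obtain ⟨z, hz, h⟩ := eq_mul_Z R h3 b' (a ^ 2 * σ a * c) c'
    exact ⟨z, hz, Or.inl (by rw [ha]; exact h)⟩
  · obtain ⟨z, hz, h⟩ := eq_mul_Z R h3 (-b') (a ^ 2 * σ a * c) (-c')
    exact ⟨z, hz, Or.inr (by rw [ha]; exact h)⟩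

include hK hσ in
theorem comm_eq : ⁅P R h3, P R h3⁆ = P1 R h3 := by
  refine le_antisymm (comm_le R h3) ?_
  set C := ⁅P R h3, P R h3⁆ with hC
  obtain ⟨a, ha⟩ := exists_nine hK
  obtain ⟨c0, hc0⟩ := exists_mem_comm R h3 a
  rw [hσ] at hc0
  set b0 := a ^ 9 - a with hb0
  have hb : b0 ≠ 0 := by
    intro h
    apply ha
    rw [← neg_sub, ← hb0, h, neg_zero]
  -- scaling by squares
  have h1 : ∀ s : K, ∃ c, R.U (0, s ^ 2 * b0, c) ∈ C := by
    intro s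
    by_cases hs : s = 0
    · refine ⟨0, ?_⟩
      rw [hs, zero_pow two_ne_zero, zero_mul]
      have : R.U ((0 : K), (0 : K), (0 : K)) = 1 := R.U_zero
      rw [this]
      exact C.one_mem
    · have h2 := conj_mem_comm R h3 (Units.mk0 s hs ^ 8) hc0
      rw [conj_h] at h2
      have e : dil σ ((Units.mk0 s hs ^ 8 : Kˣ) : K) (0, b0, c0) = (0, s ^ 2 * b0, (s ^ 8) ^ 2 * (s ^ 8) ^ 9 * c0) := by
        rw [Units.val_pow_eq_pow_val, Units.val_mk0]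
        simp only [dil, hσ, mul_zero]
        have e2 : s ^ 8 * (s ^ 8) ^ 9 = s ^ 2 := by
          calc _ = (s ^ 26) ^ 3 * s ^ 2 := by ring
            _ = _ := by rw [pow_26 hK hs, one_pow, one_mul]
        rw [e2]
      rw [e] at h2
      exact ⟨_, h2⟩
  rintro _ ⟨b, c, rfl⟩
  obtain ⟨c1, h2⟩ := h1 (b / b0 + 1)
  obtain ⟨c2, h4⟩ := h1 (b / b0 - 1)
  have h5 : R.U (0, (b / b0 + 1) ^ 2 * b0, c1) * (R.U (0, (b / b0 - 1) ^ 2 * b0, c2))⁻¹ ∈ C :=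
    C.mul_mem h2 (C.inv_mem h4)
  rw [inv_P1 R h3, ← R.U_mul] at h5
  have e : mul σ (0, (b / b0 + 1) ^ 2 * b0, c1) (0, -((b / b0 - 1) ^ 2 * b0), -c2) = (0, b, c1 - c2) := by
    simp only [mul, map_zero, mul_zero, Prod.mk.injEq]
    have e1 : b / b0 * b0 = b := div_mul_cancel₀ _ hb
    generalize b / b0 = x at e1
    refine ⟨by simp, ?_, by ring⟩
    linear_combination e1 + (x * b0) * h3
  rw [e] at h5
  obtain ⟨z, hz, h6⟩ := eq_mul_Z R h3 b c (c1 - c2)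
  rw [h6]
  exact C.mul_mem h5 (Z_le_comm R h3 hz)

include hK hσ in
theorem bdata (hB : Nat.card (R.B h3) = 511758) :
    BData ((Z R h3).subgroupOf (R.B h3)) ((P1 R h3).subgroupOf (R.B h3)) ((P R h3).subgroupOf (R.B h3)) where
  hZP1 := Subgroup.comap_mono (Z_le R h3)
  hP1P := Subgroup.comap_mono (P1_le R h3)
  nZ := nZ R h3
  nP1 := nP1 R h3
  nP := nP R h3
  card_Z := by
    rw [Nat.card_congr (Subgroup.subgroupOfEquivOfLe ((Z_le R h3).trans ((P1_le R h3).trans (P_le R h3)))).toEquiv,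
      card_Z, Nat.card_eq_fintype_card, hK]
  card_P1 := by
    rw [Nat.card_congr (Subgroup.subgroupOfEquivOfLe ((P1_le R h3).trans (P_le R h3))).toEquiv,
      card_P1, Nat.card_eq_fintype_card, hK]; norm_num
  card_P := by
    rw [Nat.card_congr (Subgroup.subgroupOfEquivOfLe (P_le R h3)).toEquiv,
      card_P, Nat.card_eq_fintype_card, hK]; norm_num
  card_B := hB
  tZ := by
    intro x hx hx1 y hy hy1
    obtain ⟨b, hb, h⟩ := tZ R h3 hK hσ x.1 hx (fun h => hx1 (Subtype.ext h)) y.1 hy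
      (fun h => hy1 (Subtype.ext h))
    exact ⟨⟨b, hb⟩, Subtype.ext h⟩
  tP1 := by
    intro x hx hx1 y hy hy1
    obtain ⟨b, hb, z, hz, h⟩ := tP1 R h3 hK hσ x.1 hx hx1 y.1 hy hy1
    refine ⟨⟨b, hb⟩, ⟨z, P_le R h3 (P1_le R h3 (Z_le R h3 hz))⟩, hz, ?_⟩
    rcases h with h | h
    · exact Or.inl (Subtype.ext h)
    · exact Or.inr (Subtype.ext h)
  tP := by
    intro x hx hx1 y hy hy1
    obtain ⟨b, hb, z, hz, h⟩ := tP R h3 x.1 hx hx1 y.1 hy hy1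
    exact ⟨⟨b, hb⟩, ⟨z, P_le R h3 (P1_le R h3 hz)⟩, hz, Subtype.ext h⟩
  cZ := by
    intro x hx hx1 z hz
    obtain ⟨b, hb, h⟩ := cZ R h3 x.1 hx hx1 z.1 hz
    exact ⟨⟨b, hb⟩, Subtype.ext h⟩
  comm := by
    intro x hx y hy
    exact Subtype.ext (comm R h3 x.1 hx y.1 hy)
  hcomm := by
    apply Subgroup.map_injective (R.B h3).subtype_injective
    rw [Subgroup.map_commutator, Subgroup.map_subgroupOf_eq_of_le (P_le R h3),
      Subgroup.map_subgroupOf_eq_of_le ((P1_le R h3).trans (P_le R h3))]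
    exact comm_eq R h3 hK hσ

end field

end Cfsg.Agent.H811.ReeInst
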